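import Mathlib

/-!
# The arithmetic of the exceptional characters
-/

set_option autoImplicit false

namespace Cfsg.Agent.ElevenPairs.JCase

/-- The case in which `m` divides the first degree. -/
theorem no_degree {m n K l e a b : ℤ} (hn : n = 11 * m + 1) (hm : 61 ≤ m) (hK : 0 < K)
    (hl : m - 1 = 5 * K * l) (h9 : 9 * m * (e - a) ^ 2 = n * (e * (e + 1))) (hb : e = b * m)
    (hb0 : b ≠ 0) (h5 : ¬ 5 ∣ e + 1) (hd : e + 1 ∣ n * K) (ha : 3 * a ^ 2 ≤ n * K) : False := by
  subst hb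
  have hsq : 9 * (b * m - a) ^ 2 = n * b * (b * m + 1) := by
    have : m * (9 * (b * m - a) ^ 2) = m * (n * b * (b * m + 1)) := by linear_combination h9
    exact mul_left_cancel₀ (by omega) this
  -- the second degree divides a product of two small factors
  have hdiv : b * m + 1 ∣ (11 - b) * (b + 1) := by
    obtain ⟨c, hc⟩ := hd
    refine ⟨11 * (b + 1) - b * n + 5 * l * b ^ 2 * c, ?_⟩
    linear_combination (5 * l * b ^ 2) * hc + b * (b + 1) * hn + (b ^ 2 * n) * hl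
  have hb11 : b ≠ 11 := by
    rintro rfl
    have h11 : (11 : ℤ) ∣ 9 * (11 * m - a) ^ 2 := ⟨n * (11 * m + 1), by linear_combination hsq⟩
    have hp : Prime (11 : ℤ) := by norm_num
    have hx : (11 : ℤ) ∣ 11 * m - a := by
      rcases hp.dvd_mul.1 h11 with h | h
      · norm_num at h
      · exact hp.dvd_of_dvd_pow h
    obtain ⟨y, hy⟩ := hx
    rw [hy, hn] at hsq
    have hbad : (11 : ℤ) ∣ 1 := ⟨9 * y ^ 2 - 2 * m - 11 * m ^ 2, mul_left_cancel₀ (show (11 : ℤ) ≠ 0 by norm_num)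
      (by linear_combination -hsq)⟩
    norm_num at hbad
  have hbm1 : b ≠ -1 := by
    rintro rfl
    exact h5 ⟨-(K * l), by linear_combination -hl⟩
  -- the bound on `b`
  have h15 : 15 * a ^ 2 ≤ n * (m - 1) := by
    rcases eq_or_lt_of_le (show (0 : ℤ) ≤ m - 1 by omega) with h | h
    · omega
    have hl1 : 1 ≤ l := by nlinarith
    have hn0 : 0 ≤ n := by omega
    nlinarith [mul_le_mul_of_nonneg_left hl1 (mul_nonneg hn0 hK.le)]
  have ham : |a| ≤ m - 1 := by
    have : a ^ 2 < m ^ 2 := by nlinarith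
    have := abs_lt_of_sq_lt_sq this (by omega)
    omega
  have hb9 : |b| ≤ 9 := by
    by_contra hcon
    push Not at hcon
    have hdist : |b * m - a| ≤ (|b| + 1) * m := by
      refine (abs_sub _ _).trans ?_
      rw [abs_mul, abs_of_nonneg (show (0 : ℤ) ≤ m by omega)]
      linarith
    have hsq2 : (b * m - a) ^ 2 ≤ ((|b| + 1) * m) ^ 2 := by
      rw [← sq_abs (b * m - a)]
      exact pow_le_pow_left₀ (abs_nonneg _) hdist 2
    have hlow : 11 * m * (b ^ 2 * m - |b|) ≤ n * b * (b * m + 1) := by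
      have h1 := neg_abs_le b
      have h2 : 0 ≤ b ^ 2 * m - |b| := by nlinarith [sq_abs b, abs_nonneg b]
      nlinarith
    have h3 : 11 * (b ^ 2 * m - |b|) ≤ 9 * (|b| + 1) ^ 2 * m := by
      have : 11 * m * (b ^ 2 * m - |b|) ≤ m * (9 * (|b| + 1) ^ 2 * m) := by nlinarith
      nlinarith
    rw [← sq_abs b] at h3
    nlinarith [mul_le_mul hcon hm (by omega) (by omega)]
  -- the second degree is too large
  have hne : (11 - b) * (b + 1) ≠ 0 := mul_ne_zero (by omega) (by omega)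
  have hle : |b * m + 1| ≤ |(11 - b) * (b + 1)| :=
    Int.le_of_dvd (abs_pos.2 hne) ((abs_dvd _ _).2 ((dvd_abs _ _).2 hdiv))
  obtain ⟨h1, h2⟩ := abs_le.1 hb9
  interval_cases b <;> first | omega | (norm_num at hle; rcases abs_le.1 hle with ⟨h3, h4⟩; omega)

/-- The equation of the exceptional characters has no solution. -/
theorem no_solution {m n K l e a : ℤ} (hn : n = 11 * m + 1) (hm : 61 ≤ m) (hK : 0 < K)
    (hl : m - 1 = 5 * K * l) (h9 : 9 * m * (e - a) ^ 2 = n * (e * (e + 1))) (he : e ≠ 0)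
    (he1 : e + 1 ≠ 0) (h5 : ¬ 5 ∣ e) (h5' : ¬ 5 ∣ e + 1) (hm' : m ∣ e ∨ m ∣ e + 1)
    (hd : m ∣ e → e + 1 ∣ n * K) (hd' : m ∣ e + 1 → e ∣ n * K) (ha : 3 * a ^ 2 ≤ n * K)
    (ha' : 3 * (1 + a) ^ 2 ≤ n * K) : False := by
  rcases hm' with hh | hh
  · obtain ⟨b, rfl⟩ := hh
    exact no_degree hn hm hK hl h9 (mul_comm _ _) (right_ne_zero_of_mul he) h5' (hd (dvd_mul_right _ _)) ha
  · obtain ⟨b, hb⟩ := hh
    refine no_degree (e := -1 - e) (a := -1 - a) (b := -b) hn hm hK hl ?_ ?_ ?_ ?_ ?_ ?_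
    · linear_combination h9
    · linear_combination -hb
    · intro hb0
      exact he1 (by rw [hb, neg_eq_zero.1 hb0, mul_zero])
    · rw [show -1 - e + 1 = -e by ring, dvd_neg]
      exact h5
    · rw [show -1 - e + 1 = -e by ring, neg_dvd]
      exact hd' ⟨b, hb⟩
    · rw [show (-1 - a) ^ 2 = (1 + a) ^ 2 by ring]
      exact ha'

end Cfsg.Agent.ElevenPairs.JCase
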