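import Cfsg.Agent.Lib.ElevenPairs.JCase.Odd

/-!
# The orbit of the centraliser of an involution on the members it normalises
-/

set_option autoImplicit false
set_option linter.unusedSectionVars false
set_option linter.style.haveILetI false

namespace Cfsg.Agent.ElevenPairs.JCase

open Subgroup

universe u

variable {G : Type u} [Group G] [Finite G] {P : Subgroup G}

/-- The members normalised by `t`. -/
def Phi (P : Subgroup G) (t : G) : Set (Subgroup G) :=
  {Q | Member P Q ∧ t ∈ normalizer (Q : Set G)}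

/-- The stabiliser of `A` in `C(t)`. -/
def stabA (A : Subgroup G) (t : G) : Subgroup G := normalizer (A : Set G) ⊓ centralizer ({t} : Set G)

/-- The stabiliser of `A` and of the pair `Y` in `C(t)`. -/
def stabY (Y A : Subgroup G) (t : G) : Subgroup G := stabA A t ⊓ normalizer (Y : Set G)

theorem mem_stabA {A : Subgroup G} {t g : G} :
    g ∈ stabA A t ↔ g ∈ normalizer (A : Set G) ∧ Commute g t :=
  ⟨fun h => ⟨h.1, mem_centralizer_singleton_iff.1 h.2⟩, fun h => ⟨h.1, mem_centralizer_singleton_iff.2 h.2⟩⟩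

theorem mem_stabY {Y A : Subgroup G} {t g : G} :
    g ∈ stabY Y A t ↔ (g ∈ normalizer (A : Set G) ∧ Commute g t) ∧ g ∈ normalizer (Y : Set G) :=
  ⟨fun h => ⟨mem_stabA.1 h.1, h.2⟩, fun h => ⟨mem_stabA.2 h.1, h.2⟩⟩

theorem smul_mem_Phi {t c : G} (hc : Commute c t) {Q : Subgroup G} (hQ : Q ∈ Phi P t) :
    Q.map (MulAut.conj c).toMonoidHom ∈ Phi P t := by
  refine ⟨hQ.1.conj c, mem_normalizer_map_iff.2 ?_⟩
  rw [mul_assoc, ← hc.eq, inv_mul_cancel_left]
  exact hQ.2

theorem map_subgroupOf_conj {Z A : Subgroup G} (hA : A ≤ Z) (c : ↥Z) :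
    ((A.subgroupOf Z).map (MulAut.conj c).toMonoidHom).map Z.subtype = A.map (MulAut.conj (c : G)).toMonoidHom := by
  conv_rhs => rw [← map_subgroupOf_eq_of_le hA, Subgroup.map_map]
  rw [Subgroup.map_map]
  congr 1

/-- A frame with its element of order five, inverter and second member. -/
structure Axis (P Y A : Subgroup G) (t f v : G) (A' : Subgroup G) : Prop extends Frame P Y A t where
  tY : t ∈ Y
  fY : f ∈ Y
  ordf : orderOf f = 5
  ft : Commute f t
  fA : f ∈ normalizer (A : Set G)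
  fnc : f ∉ centralizer (A : Set G)
  vY : v ∈ Y
  vsq : v * v = 1
  vt : Commute v t
  vf : v * f * v⁻¹ = f⁻¹
  vA : A.map (MulAut.conj v).toMonoidHom = A'
  leA' : A' ≤ Y
  cardA' : Nat.card A' = 11
  neA' : A' ≠ A
  tA' : t ∈ normalizer (A' : Set G)
  fA' : f ∈ normalizer (A' : Set G)
  stab : ∀ z, Commute z t → z ∈ normalizer (Y : Set G) → z ∈ normalizer (A : Set G) →
    z ∈ normalizer (A' : Set G)

namespace Frame

variable {Y A : Subgroup G} {t : G}

/-- The involution lies in the pair. -/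
theorem t_mem (F : Frame P Y A t) (h : Core P) : t ∈ Y := by
  obtain ⟨j, hj, hj2, hk, hcomm, -⟩ := F.exists_inner
  have hk2 : (j⁻¹ * t) ^ 2 = 1 := by
    rw [hcomm.symm.inv_left.mul_pow, inv_pow, ← hj2, pow_orderOf_eq_one, hj2, ← F.ord, pow_orderOf_eq_one,
      inv_one, one_mul]
  have hkA : j⁻¹ * t ∈ centralizer (A : Set G) := centralizer_le F.le hk
  have h2 : orderOf (j⁻¹ * t) = 1 := Nat.eq_one_of_dvd_coprimes
    (Nat.coprime_two_left.2 (F.odd_centralizer h)) (orderOf_dvd_of_pow_eq_one hk2)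
    (Subgroup.orderOf_dvd_natCard _ hkA)
  rw [orderOf_eq_one_iff, inv_mul_eq_one] at h2
  exact h2 ▸ hj

theorem exists_axis (F : Frame P Y A t) (h : Core P) : ∃ f v A', Axis P Y A t f v A' := by
  obtain ⟨f, hfY, hf, hft, hfA, hfc, A', hA'Y, hA'c, hA'ne, htA', hfA', hstab⟩ := F.exists_five
  have htY := F.t_mem h
  set t₀ : ↥Y := ⟨t, htY⟩
  set f₀ : ↥Y := ⟨f, hfY⟩
  have ht₀ : orderOf t₀ = 2 := by rw [orderOf_mk]; exact F.ord
  have hf₀ : orderOf f₀ = 5 := by rw [orderOf_mk]; exact hf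
  have hA₀ : Nat.card (A.subgroupOf Y) = 11 := by rw [card_subgroupOf F.le, F.cardA]
  have htA₀ := (JPair.mem_normalizer_subgroupOf F.le htY).2 F.normA
  have hfA₀ := (JPair.mem_normalizer_subgroupOf F.le hfY).2 hfA
  obtain ⟨v, hv2, hvt, hvf⟩ := F.pair.isJ.exists_inverter ht₀ hf₀ (Subtype.ext hft.eq)
  have hv := F.pair.isJ.inverter_moves ht₀ hA₀ htA₀ hf₀ (Subtype.ext hft.eq) hfA₀ hvt hvf
  have hvt' : Commute (v : G) t := congrArg Subtype.val hvt.eq
  have hvf' : (v : G) * f * (v : G)⁻¹ = f⁻¹ := congrArg Subtype.val hvf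
  have hne : A ≠ A.map (MulAut.conj (v : G)).toMonoidHom := fun e =>
    hv ((JPair.mem_normalizer_subgroupOf F.le v.2).2 (mem_normalizer_of_map e.symm))
  have hfv : f ∈ normalizer ((A.map (MulAut.conj (v : G)).toMonoidHom : Subgroup G) : Set G) := by
    rw [mem_normalizer_map_iff]
    have hvi : (v : G)⁻¹ = v := inv_eq_of_mul_eq_one_right (congrArg Subtype.val hv2)
    have e : (v : G)⁻¹ * f * v = f⁻¹ := by rw [hvi]; nth_rewrite 2 [← hvi]; exact hvf'
    rw [e]
    exact inv_mem hfA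
  have hmem : A.map (MulAut.conj (v : G)).toMonoidHom ∈ Phi P t :=
    smul_mem_Phi hvt' ⟨F.member h.toSetting, F.normA⟩
  refine ⟨f, v, A', F, htY, hfY, hf, hft, hfA, hfc, v.2, congrArg Subtype.val hv2, hvt', hvf', ?_, hA'Y,
    hA'c, hA'ne, htA', hfA', hstab⟩
  exact F.fixed_unique h.toSetting hfA (by rw [← hf, pow_orderOf_eq_one]; exact one_mem _) hfc hmem.1
    (F.pair.member h.toSetting hA'Y hA'c) hne (Ne.symm hA'ne) hmem.2 htA' hfv hfA'

end Frame

namespace Axis

variable {Y A A' : Subgroup G} {t f v : G}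

theorem gen' (X : Axis P Y A t f v A') (h : Core P) : A ⊔ A' = Y :=
  X.toFrame.gen h X.leA' X.cardA' (Ne.symm X.neA') X.tA'

theorem memberA' (X : Axis P Y A t f v A') (h : Core P) : Member P A' :=
  X.pair.member h.toSetting X.leA' X.cardA'

theorem odd_CA (X : Axis P Y A t f v A') (h : Core P) : Odd (Nat.card ↥(centralizer (A : Set G))) :=
  X.toFrame.odd_centralizer h

theorem odd_CY (X : Axis P Y A t f v A') (h : Core P) : Odd (Nat.card ↥(centralizer (Y : Set G))) :=
  (X.odd_CA h).of_dvd_nat (card_dvd_of_le (centralizer_le X.le))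

theorem CY_comm (X : Axis P Y A t f v A') {k : G} (hk : k ∈ centralizer (Y : Set G)) {y : G} (hy : y ∈ Y) :
    Commute k y :=
  (mem_centralizer_iff.1 hk y hy).symm

theorem CY_le_normalizer (X : Axis P Y A t f v A') {k : G} (hk : k ∈ centralizer (Y : Set G)) :
    k ∈ stabY Y A t :=
  mem_stabY.2 ⟨⟨centralizer_le_normalizer _ (centralizer_le X.le hk), X.CY_comm hk X.tY⟩,
    centralizer_le_normalizer _ hk⟩

theorem t_mem_stabY (X : Axis P Y A t f v A') : t ∈ stabY Y A t :=
  mem_stabY.2 ⟨⟨X.toFrame.normA, Commute.refl t⟩, X.normY⟩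

theorem f_mem_stabY (X : Axis P Y A t f v A') : f ∈ stabY Y A t :=
  mem_stabY.2 ⟨⟨X.fA, X.ft⟩, le_normalizer X.fY⟩

/-- The elements fixing `A` and `Y`. -/
theorem stabY_decomp (X : Axis P Y A t f v A') {z : G} (hz : z ∈ stabY Y A t) :
    ∃ i : ℤ, ∃ k ∈ centralizer (Y : Set G), z = (t * f) ^ i * k := by
  obtain ⟨⟨hzA, hzt⟩, hzY⟩ := mem_stabY.1 hz
  obtain ⟨y, hy, hk⟩ := X.pair.decompose hzY
  set k := y⁻¹ * z
  have hkt : Commute k t := X.CY_comm hk X.tY
  have hye : y = z * k⁻¹ := by simp [k]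
  have hyt : Commute y t := hye ▸ hzt.mul_left hkt.inv_left
  have hyA : y ∈ normalizer (A : Set G) :=
    hye ▸ mul_mem hzA (inv_mem (centralizer_le_normalizer _ (centralizer_le X.le hk)))
  obtain ⟨i, hi⟩ := mem_zpowers_iff.1 (X.pair.isJ.mem_stab (t := (⟨t, X.tY⟩ : ↥Y)) (f := ⟨f, X.fY⟩)
    (g := ⟨y, hy⟩) (by rw [orderOf_mk]; exact X.ord) (by rw [card_subgroupOf X.le, X.cardA])
    ((JPair.mem_normalizer_subgroupOf X.le X.tY).2 X.toFrame.normA) (by rw [orderOf_mk]; exact X.ordf)
    (Subtype.ext X.ft.eq) ((JPair.mem_normalizer_subgroupOf X.le X.fY).2 X.fA) (Subtype.ext hyt.eq)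
    ((JPair.mem_normalizer_subgroupOf X.le hy).2 hyA))
  refine ⟨i, k, hk, ?_⟩
  have : (t * f) ^ i = y := congrArg Subtype.val hi
  rw [this]
  simp [k]

theorem stabY_comm_f (X : Axis P Y A t f v A') {z : G} (hz : z ∈ stabY Y A t) : Commute z f := by
  obtain ⟨i, k, hk, rfl⟩ := X.stabY_decomp hz
  exact ((X.ft.symm.mul_left (Commute.refl f)).zpow_left i).mul_left (X.CY_comm hk X.fY)

theorem stabY_fix' (X : Axis P Y A t f v A') {z : G} (hz : z ∈ stabY Y A t) :
    z ∈ normalizer (A' : Set G) :=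
  X.stab z (mem_stabY.1 hz).1.2 (mem_stabY.1 hz).2 (mem_stabY.1 hz).1.1

theorem stabY_centralizer (X : Axis P Y A t f v A') (h : Core P) :
    stabY Y A t ⊓ centralizer (A : Set G) = centralizer (Y : Set G) := by
  refine le_antisymm ?_ fun k hk => ⟨X.CY_le_normalizer hk, centralizer_le X.le hk⟩
  rintro z ⟨hz, hzA⟩
  have hzA' := pair_lemma h.toSetting (X.toFrame.member h.toSetting) (X.memberA' h) hzA (X.stabY_fix' hz)
  rw [← X.gen' h, mem_centralizer_iff]
  intro x hx
  have hle : A ⊔ A' ≤ centralizer ({z} : Set G) := sup_le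
    (fun y hy => mem_centralizer_singleton_iff.2 (mem_centralizer_iff.1 hzA y hy))
    (fun y hy => mem_centralizer_singleton_iff.2 (mem_centralizer_iff.1 hzA' y hy))
  exact mem_centralizer_singleton_iff.1 (hle hx)

/-- A group of elements fixing `A` which contains `t` and `f` has ten cosets of its part centralising `A`. -/
theorem card_of_le (X : Axis P Y A t f v A') {L : Subgroup G} (hL : L ≤ normalizer (A : Set G)) (ht : t ∈ L)
    (hf : f ∈ L) : Nat.card L = 10 * Nat.card ↥(L ⊓ centralizer (A : Set G) : Subgroup G) := by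
  set φ := (normalizerMonoidHom A).comp (inclusion hL)
  have hker : φ.ker = (L ⊓ centralizer (A : Set G)).subgroupOf L := by
    rw [inf_comm, inf_subgroupOf_right, show φ.ker = (normalizerMonoidHom A).ker.comap (inclusion hL) from
      (MonoidHom.comap_ker _ _).symm, normalizerMonoidHom_ker]
    rfl
  haveI : IsCyclic ↥A := isCyclic_of_prime_card (p := 11) (hp := ⟨by norm_num⟩) X.cardA
  have hr : Nat.card φ.range ≤ 10 := by
    have := card_subgroup_dvd_card φ.range
    rw [IsCyclic.card_mulAut, X.cardA, Nat.totient_prime (by norm_num : Nat.Prime 11)] at this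
    exact Nat.le_of_dvd (by norm_num) this
  have hr' : 10 ≤ Nat.card φ.range := by
    obtain ⟨a, ha, h2, h5⟩ := X.toFrame.exponent_five X.fA
      (by rw [← X.ordf, pow_orderOf_eq_one]; exact one_mem _) X.fnc
    set w : ↥L := ⟨t * f, mul_mem ht hf⟩
    obtain ⟨x, hx, hx1⟩ := exists_ne_one X.cardA
    have hne : ∀ k : ℕ, ¬ a ^ k ≡ 1 [MOD 11] → φ w ^ k ≠ 1 := by
      intro k hk e
      refine hk ?_
      rw [← map_pow] at e
      have e' := congrArg (fun σ : MulAut ↥A => ((σ ⟨x, hx⟩ : ↥A) : G)) e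
      have e'' : (t * f) ^ k * x * ((t * f) ^ k)⁻¹ = x := e'
      rw [conj_pow_exponent ha k x hx] at e''
      exact modEq_of_pow_eq X.cardA hx hx1 (e''.trans (pow_one x).symm)
    have h10 : φ w ^ 10 = 1 := by
      rw [← map_pow, show w ^ 10 = 1 from Subtype.ext (show (t * f) ^ 10 = 1 by
        rw [X.ft.symm.mul_pow, show t ^ 10 = 1 by
          rw [show (10 : ℕ) = 2 * 5 from rfl, pow_mul, ← X.ord, pow_orderOf_eq_one, one_pow],
          show f ^ 10 = 1 by rw [show (10 : ℕ) = 5 * 2 from rfl, pow_mul, ← X.ordf, pow_orderOf_eq_one, one_pow],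
          one_mul]), map_one]
    have hord : orderOf (φ w) = 10 := by
      have hdvd := orderOf_dvd_of_pow_eq_one h10
      have : ∀ d ≤ 10, d ∣ 10 → d = 1 ∨ d = 2 ∨ d = 5 ∨ d = 10 := by decide
      rcases this _ (Nat.le_of_dvd (by norm_num) hdvd) hdvd with e | e | e | e
      · exact absurd (by rw [orderOf_eq_one_iff.1 e, one_pow]) (hne 2 h2)
      · exact absurd (e ▸ pow_orderOf_eq_one (φ w)) (hne 2 h2)
      · exact absurd (e ▸ pow_orderOf_eq_one (φ w)) (hne 5 h5)
      · exact e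
    rw [← hord, ← Nat.card_zpowers]
    exact Nat.le_of_dvd Nat.card_pos (card_dvd_of_le (zpowers_le.2 ⟨w, rfl⟩))
  rw [← φ.ker.card_mul_index, index_ker, hker, Nat.card_congr (subgroupOfEquivOfLe inf_le_left).toEquiv,
    le_antisymm hr hr', mul_comm]

theorem card_stabY (X : Axis P Y A t f v A') (h : Core P) :
    Nat.card (stabY Y A t) = 10 * Nat.card ↥(centralizer (Y : Set G)) := by
  rw [X.card_of_le (L := stabY Y A t) (fun z hz => (mem_stabY.1 hz).1.1) X.t_mem_stabY X.f_mem_stabY,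
    X.stabY_centralizer h]

theorem card_stabA (X : Axis P Y A t f v A') :
    Nat.card (stabA A t) = 10 * Nat.card ↥(stabA A t ⊓ centralizer (A : Set G) : Subgroup G) :=
  X.card_of_le (L := stabA A t) inf_le_left X.t_mem_stabY.1 X.f_mem_stabY.1

/-- The number of pairs through `A`. -/
noncomputable def _root_.Cfsg.Agent.ElevenPairs.JCase.mOf (Y A : Subgroup G) (t : G) : ℕ :=
  (stabY Y A t).relIndex (stabA A t)

theorem card_stabA_eq (X : Axis P Y A t f v A') (h : Core P) :
    Nat.card (stabA A t) = 10 * (mOf Y A t * Nat.card ↥(centralizer (Y : Set G))) := by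
  have := ((stabY Y A t).subgroupOf (stabA A t)).card_mul_index
  rw [Nat.card_congr (subgroupOfEquivOfLe (show stabY Y A t ≤ stabA A t from inf_le_left)).toEquiv,
    X.card_stabY h] at this
  rw [← this, mOf, relIndex]
  ring

/-- `C(t)` is transitive on the members it normalises. -/
theorem exists_to (X : Axis P Y A t f v A') (h : Core P) {Q : Subgroup G} (hQ : Q ∈ Phi P t) :
    ∃ c : G, Commute c t ∧ A.map (MulAut.conj c).toMonoidHom = Q := by
  by_cases hne : A = Q
  · exact ⟨1, Commute.one_left t, by rw [map_conj_one, hne]⟩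
  have F' := X.toFrame.to_other h hQ.1 hne hQ.2
  have htZ := F'.t_mem h
  have hAle : A ≤ A ⊔ Q := le_sup_left
  have hQle : Q ≤ A ⊔ Q := le_sup_right
  obtain ⟨c, hc, hcQ⟩ := F'.pair.isJ.transitive (t := (⟨t, htZ⟩ : ↥(A ⊔ Q))) (by rw [orderOf_mk]; exact X.ord)
    (Q := A.subgroupOf (A ⊔ Q)) (R := Q.subgroupOf (A ⊔ Q)) (by rw [card_subgroupOf hAle, X.cardA])
    (by rw [card_subgroupOf hQle, member_card h.toSetting hQ.1])
    ((JPair.mem_normalizer_subgroupOf hAle htZ).2 X.toFrame.normA)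
    ((JPair.mem_normalizer_subgroupOf hQle htZ).2 hQ.2)
  refine ⟨c, congrArg Subtype.val hc.eq, ?_⟩
  have e := congrArg (Subgroup.map (A ⊔ Q).subtype) hcQ
  rwa [map_subgroupOf_eq_of_le hQle, map_subgroupOf_conj hAle] at e

theorem card_centralizer (X : Axis P Y A t f v A') (h : Core P) :
    Nat.card ↥(centralizer ({t} : Set G)) = Nat.card (Phi P t) * Nat.card (stabA A t) := by
  set C := centralizer ({t} : Set G)
  set S := (stabA A t).subgroupOf C
  have hiff : ∀ a b : ↥C, A.map (MulAut.conj (a : G)).toMonoidHom = A.map (MulAut.conj (b : G)).toMonoidHom ↔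
      a⁻¹ * b ∈ S := by
    intro a b
    rw [mem_subgroupOf, Subgroup.coe_mul, Subgroup.coe_inv]
    constructor
    · intro e
      refine mem_stabA.2 ⟨mem_normalizer_of_map ?_, ?_⟩
      · rw [map_conj_mul, ← e, ← map_conj_mul, inv_mul_cancel, map_conj_one]
      · exact (show Commute (a : G) t from mem_centralizer_singleton_iff.1 a.2).inv_left.mul_left
          (show Commute (b : G) t from mem_centralizer_singleton_iff.1 b.2)
    · intro e
      conv_rhs => rw [← mul_inv_cancel_left (a : G) (b : G), map_conj_mul, map_conj_eq_self (mem_stabA.1 e).1]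
  rw [← Nat.card_congr (subgroupOfEquivOfLe (show stabA A t ≤ C from inf_le_right)).toEquiv, ← S.card_mul_index,
    mul_comm, Subgroup.index]
  congr 1
  refine Nat.card_congr (Equiv.ofBijective
    (Quotient.lift (s := QuotientGroup.leftRel S) (fun a : ↥C => (⟨A.map (MulAut.conj (a : G)).toMonoidHom,
      smul_mem_Phi (mem_centralizer_singleton_iff.1 a.2) ⟨X.toFrame.member h.toSetting, X.toFrame.normA⟩⟩ : Phi P t))
      (fun a b hab => Subtype.ext ((hiff a b).2 (QuotientGroup.leftRel_apply.1 hab)))) ⟨?_, ?_⟩)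
  · intro x y hxy
    induction x using Quotient.inductionOn
    induction y using Quotient.inductionOn
    exact Quotient.sound (QuotientGroup.leftRel_apply.2 ((hiff _ _).1 (congrArg Subtype.val hxy)))
  · rintro ⟨Q, hQ⟩
    obtain ⟨c, hct, hcQ⟩ := X.exists_to h hQ
    exact ⟨Quotient.mk _ ⟨c, mem_centralizer_singleton_iff.2 hct.eq⟩, Subtype.ext hcQ⟩

/-- Every pair through two members normalised by `t` comes from `Y`. -/
theorem exists_pair_to (X : Axis P Y A t f v A') (h : Core P) {Q R : Subgroup G} (hQ : Q ∈ Phi P t)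
    (hR : R ∈ Phi P t) (hne : Q ≠ R) :
    ∃ c : G, Commute c t ∧ Y.map (MulAut.conj c).toMonoidHom = Q ⊔ R := by
  obtain ⟨c, hct, hcQ⟩ := X.exists_to h hQ
  set R' := R.map (MulAut.conj c⁻¹).toMonoidHom
  have hR' : R' ∈ Phi P t := smul_mem_Phi hct.inv_left hR
  have hback : R'.map (MulAut.conj c).toMonoidHom = R := by
    rw [← map_conj_mul, mul_inv_cancel, map_conj_one]
  obtain ⟨-, b, hbt, -, hb⟩ := X.toFrame.all_pairs h hR'.1 (fun e => hne (by rw [← hcQ, e, hback])) hR'.2
  exact ⟨c * b, hct.mul_left hbt, by rw [map_conj_mul, hb, Subgroup.map_sup, hcQ, hback]⟩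

/-- A pair through two members normalised by `t` has twelve such members. -/
theorem card_inside (X : Axis P Y A t f v A') :
    Nat.card {Q : Subgroup G // Q ≤ Y ∧ Nat.card Q = 11 ∧ t ∈ normalizer (Q : Set G)} = 12 := by
  rw [← X.pair.isJ.card_normalized (t := (⟨t, X.tY⟩ : ↥Y)) (by rw [orderOf_mk]; exact X.ord)]
  refine Nat.card_congr
    { toFun := fun Q => ⟨Q.1.subgroupOf Y, by rw [card_subgroupOf Q.2.1, Q.2.2.1],
        (JPair.mem_normalizer_subgroupOf Q.2.1 X.tY).2 Q.2.2.2⟩
      invFun := fun R => ⟨R.1.map Y.subtype, map_subtype_le _,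
        by rw [Subgroup.card_map_of_injective (subtype_injective _), R.2.1],
        (JPair.mem_normalizer_subgroupOf (map_subtype_le _) X.tY).1 (by
          rw [show (R.1.map Y.subtype).subgroupOf Y = R.1 from
            comap_map_eq_self_of_injective (subtype_injective _) R.1]
          exact R.2.2)⟩
      left_inv := fun Q => Subtype.ext (map_subgroupOf_eq_of_le Q.2.1)
      right_inv := fun R => Subtype.ext (comap_map_eq_self_of_injective (subtype_injective _) R.1) }

/-- The members normalised by `t` number `11 m + 1`. -/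
theorem card_Phi (X : Axis P Y A t f v A') (h : Core P) :
    Nat.card (Phi P t) = 11 * mOf Y A t + 1 := by
  classical
  set N := stabA A t
  set S := (stabY Y A t).subgroupOf N
  have hA : A ∈ Phi P t := ⟨X.toFrame.member h.toSetting, X.toFrame.normA⟩
  let I := {Q : Subgroup G // (Q ≤ Y ∧ Nat.card Q = 11 ∧ t ∈ normalizer (Q : Set G)) ∧ Q ≠ A}
  have hI : Nat.card I = 11 := by
    have h1 := X.card_inside
    let e : {Q : Subgroup G // Q ≤ Y ∧ Nat.card Q = 11 ∧ t ∈ normalizer (Q : Set G)} ≃ Option I :=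
      { toFun := fun Q => if hQ : Q.1 = A then none else some ⟨Q.1, Q.2, hQ⟩
        invFun := fun o => o.elim ⟨A, X.le, X.cardA, X.toFrame.normA⟩ (fun Q => ⟨Q.1, Q.2.1⟩)
        left_inv := fun Q => by
          by_cases hQ : Q.1 = A
          · simp [hQ]
            exact Subtype.ext hQ.symm
          · simp [hQ]
        right_inv := fun o => by
          rcases o with _ | Q
          · simp
          · simp [Q.2.2] }
    rw [Nat.card_congr e, Finite.card_option] at h1
    omega
  let g : (↥N ⧸ S) × I → {Q : Phi P t // Q.1 ≠ A} := fun p =>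
    ⟨⟨p.2.1.map (MulAut.conj (p.1.out : G)).toMonoidHom,
      smul_mem_Phi (mem_stabA.1 p.1.out.2).2
        ⟨X.pair.member h.toSetting p.2.2.1.1 p.2.2.1.2.1, p.2.2.1.2.2⟩⟩,
      fun e => p.2.2.2 (Subgroup.map_injective (MulEquiv.injective _)
        (e.trans (map_conj_eq_self (mem_stabA.1 p.1.out.2).1).symm))⟩
  have hpair : ∀ p, A ⊔ (g p).1.1 = Y.map (MulAut.conj (p.1.out : G)).toMonoidHom := by
    intro p
    rw [← X.toFrame.gen h p.2.2.1.1 p.2.2.1.2.1 (Ne.symm p.2.2.2) p.2.2.1.2.2, Subgroup.map_sup,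
      map_conj_eq_self (mem_stabA.1 p.1.out.2).1]
  have hg : Function.Bijective g := by
    constructor
    · rintro ⟨q, Q⟩ ⟨r, R⟩ e
      have e1 := hpair (q, Q)
      rw [e, hpair (r, R)] at e1
      have hqr : q = r := by
        rw [← QuotientGroup.out_eq' q, ← QuotientGroup.out_eq' r, QuotientGroup.eq, mem_subgroupOf]
        refine mem_stabY.2 ⟨mem_stabA.1 (q.out⁻¹ * r.out).2, mem_normalizer_of_map ?_⟩
        rw [Subgroup.coe_mul, Subgroup.coe_inv, map_conj_mul, e1, ← map_conj_mul, inv_mul_cancel, map_conj_one]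
      subst hqr
      have e2 := congrArg (fun z => z.1.1) e
      exact Prod.ext rfl (Subtype.ext (Subgroup.map_injective (MulEquiv.injective _) e2))
    · rintro ⟨⟨Q, hQ⟩, hne⟩
      obtain ⟨-, b, hbt, hbA, hb⟩ := X.toFrame.all_pairs h hQ.1 (Ne.symm hne) hQ.2
      set q : ↥N ⧸ S := QuotientGroup.mk ⟨b, mem_stabA.2 ⟨hbA, hbt⟩⟩
      set d : G := (q.out : G) with hd
      obtain ⟨hdA, hdt⟩ := mem_stabA.1 q.out.2
      have hdY : Y.map (MulAut.conj d).toMonoidHom = A ⊔ Q := by
        have hq := QuotientGroup.out_eq' q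
        rw [eq_comm, QuotientGroup.eq, mem_subgroupOf] at hq
        have := map_conj_eq_self (mem_stabY.1 hq).2
        rw [Subgroup.coe_mul, Subgroup.coe_inv, map_conj_mul] at this
        have := congrArg (Subgroup.map (MulAut.conj b).toMonoidHom) this
        rwa [← map_conj_mul, mul_inv_cancel, map_conj_one, hb] at this
      set Q₀ := Q.map (MulAut.conj d⁻¹).toMonoidHom with hQ₀
      have hQ₀' : Q₀ ∈ Phi P t := smul_mem_Phi hdt.inv_left hQ
      have hle : Q₀ ≤ Y := by
        have := Subgroup.map_mono (f := (MulAut.conj d⁻¹).toMonoidHom) (hdY ▸ le_sup_right : Q ≤ _)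
        rwa [← map_conj_mul, inv_mul_cancel, map_conj_one] at this
      have hback : Q₀.map (MulAut.conj d).toMonoidHom = Q := by
        rw [← map_conj_mul, mul_inv_cancel, map_conj_one]
      refine ⟨(q, ⟨Q₀, ⟨hle, member_card h.toSetting hQ₀'.1, hQ₀'.2⟩, fun e => hne ?_⟩), Subtype.ext (Subtype.ext hback)⟩
      exact (hback.symm.trans (congrArg (fun R => R.map (MulAut.conj d).toMonoidHom) e)).trans
        (map_conj_eq_self hdA)
  have hN : Nat.card {Q : Phi P t // Q.1 ≠ A} = 11 * mOf Y A t := by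
    rw [← Nat.card_congr (Equiv.ofBijective g hg), Nat.card_prod, hI, mul_comm, mOf, relIndex, Subgroup.index]
  have hsplit : Nat.card (Phi P t) = Nat.card {Q : Phi P t // Q.1 = A} + Nat.card {Q : Phi P t // Q.1 ≠ A} := by
    rw [← Nat.card_sum, Nat.card_congr (Equiv.sumCompl _)]
  rw [hsplit, hN, show Nat.card {Q : Phi P t // Q.1 = A} = 1 from Nat.card_eq_one_iff_unique.2
    ⟨⟨fun a b => Subtype.ext (Subtype.ext (a.2.trans b.2.symm))⟩, ⟨⟨⟨A, hA⟩, rfl⟩⟩⟩, add_comm]

end Axis

end Cfsg.Agent.ElevenPairs.JCase
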