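import Cfsg.Agent.Lib.ElevenPairs.JCase.Axis

/-!
# The involutions of the centraliser of an involution modulo that involution
-/

set_option autoImplicit false
set_option linter.unusedSectionVars false
set_option linter.style.haveILetI false

namespace Cfsg.Agent.ElevenPairs.JCase

open Subgroup

universe u

variable {G : Type u} [Group G] [Finite G] {P : Subgroup G}

theorem mem_zpowers_two {t x : G} (ht : orderOf t = 2) : x ∈ zpowers t ↔ x = 1 ∨ x = t := by
  constructor
  · intro hx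
    obtain ⟨i, rfl⟩ := mem_zpowers_iff.1 hx
    rw [← zpow_mod_orderOf, ht]
    rcases Int.emod_two_eq i with h | h
    · left; rw [show ((2 : ℕ) : ℤ) = 2 from rfl, h, zpow_zero]
    · right; rw [show ((2 : ℕ) : ℤ) = 2 from rfl, h, zpow_one]
  · rintro (rfl | rfl)
    · exact one_mem _
    · exact mem_zpowers _

/-- The elements of `C(t)` fixing `v` modulo `t`. -/
def modCentralizer (t v : G) (ht : t * t = 1) (hv : Commute v t) : Subgroup G where
  carrier := {c | Commute c t ∧ (c * v * c⁻¹ = v ∨ c * v * c⁻¹ = v * t)}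
  one_mem' := ⟨Commute.one_left t, Or.inl (by group)⟩
  mul_mem' := by
    rintro a b ⟨hat, ha⟩ ⟨hbt, hb⟩
    refine ⟨hat.mul_left hbt, ?_⟩
    have e : a * b * v * (a * b)⁻¹ = a * (b * v * b⁻¹) * a⁻¹ := by group
    have e2 : a * (v * t) * a⁻¹ = a * v * a⁻¹ * t := by
      rw [show a * (v * t) * a⁻¹ = a * v * (t * a⁻¹) by group, hat.inv_left.symm.eq, ← mul_assoc]
    rcases hb with hb | hb
    · rw [e, hb]; exact ha
    · rw [e, hb, e2]
      rcases ha with ha | ha <;> rw [ha]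
      · exact Or.inr rfl
      · left; rw [mul_assoc, ht, mul_one]
  inv_mem' := by
    rintro a ⟨hat, ha⟩
    refine ⟨hat.inv_left, ?_⟩
    rcases ha with ha | ha
    · left
      nth_rewrite 1 [← ha]
      group
    · right
      have e : a⁻¹ * (v * t) * a⁻¹⁻¹ = v := by rw [← ha]; group
      have e2 : a⁻¹ * (v * t) * a⁻¹⁻¹ = a⁻¹ * v * a⁻¹⁻¹ * t := by
        rw [inv_inv, show a⁻¹ * (v * t) * a = a⁻¹ * v * (t * a) by group, hat.symm.eq, ← mul_assoc]
      rw [e2] at e
      calc a⁻¹ * v * a⁻¹⁻¹ = a⁻¹ * v * a⁻¹⁻¹ * t * t := by rw [mul_assoc (a⁻¹ * v * a⁻¹⁻¹), ht, mul_one]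
        _ = v * t := by rw [e]

namespace Axis

variable {Y A A' : Subgroup G} {t f v : G}

theorem v_ne_t (X : Axis P Y A t f v A') : v ≠ t := fun e => by
  have h := X.vA
  rw [e, map_conj_eq_self X.toFrame.normA] at h
  exact X.neA' h.symm

theorem ordv (X : Axis P Y A t f v A') : orderOf v = 2 := by
  haveI : Fact (Nat.Prime 2) := ⟨Nat.prime_two⟩
  refine orderOf_eq_prime (by rw [sq, X.vsq]) fun e => ?_
  have h := X.vA
  rw [e, map_conj_one] at h
  exact X.neA' h.symm

theorem tt (X : Axis P Y A t f v A') : t * t = 1 := by rw [← sq, ← X.ord, pow_orderOf_eq_one]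

theorem odd_B (X : Axis P Y A t f v A') (h : Core P) :
    Odd (Nat.card ↥(stabA A t ⊓ centralizer (A : Set G) : Subgroup G)) :=
  (X.odd_CA h).of_dvd_nat (card_dvd_of_le inf_le_right)

/-- An element of `C(t)` squaring into `<t>` and fixing a member lies in `<t>`. -/
theorem mem_of_fix (X : Axis P Y A t f v A') (h : Core P) {x : G} (hxt : Commute x t)
    (hx2 : x * x ∈ zpowers t) {Q : Subgroup G} (hQ : Q ∈ Phi P t) (hxQ : x ∈ normalizer (Q : Set G)) :
    x ∈ zpowers t := by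
  have hcQ := member_card h.toSetting hQ.1
  have hinv := X.toFrame.inverts_all h hQ.1 hQ.2
  obtain ⟨c, hc⟩ := exists_exponent hcQ hxQ
  obtain ⟨y, hy, hy1⟩ := exists_ne_one hcQ
  have hord := Subgroup.orderOf_dvd_natCard Q hy
  rw [hcQ] at hord
  have hnc : ¬ 11 ∣ c := fun hd => by
    have h1 := hc y hy
    rw [orderOf_dvd_iff_pow_eq_one.1 ((orderOf_eleven hcQ hy hy1).symm ▸ hd), mul_inv_eq_one,
      mul_eq_left] at h1
    exact hy1 h1
  have hsq : (x * x) * y * (x * x)⁻¹ = y ^ (c * c) := by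
    rw [← sq x, conj_pow_exponent hc 2 y hy, sq c]
  have hx2' : x * x = 1 := by
    refine ((mem_zpowers_two X.ord).1 hx2).resolve_right fun e => ?_
    rw [e, hinv y hy] at hsq
    have h1 : y ^ (c * c + 1) = y ^ 0 := by rw [pow_succ, ← hsq, inv_mul_cancel, pow_zero]
    have := modEq_of_pow_eq hcQ hy hy1 h1
    have hfin : ∀ i < 11, ¬ (i * i + 1) % 11 = 0 := by decide
    refine hfin (c % 11) (Nat.mod_lt _ (by norm_num)) ?_
    rw [Nat.add_mod, ← Nat.mul_mod, ← Nat.add_mod]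
    exact this
  -- now `x` centralises or inverts `Q`
  have hcases : x ∈ centralizer (Q : Set G) ∨ t * x ∈ centralizer (Q : Set G) := by
    rw [hx2', one_mul, inv_one, mul_one] at hsq
    have hm := modEq_of_pow_eq hcQ hy hy1 ((pow_one y).trans hsq)
    have hfin : ∀ i < 11, i * i % 11 = 1 → i = 1 ∨ i = 10 := by decide
    rcases hfin (c % 11) (Nat.mod_lt _ (by norm_num)) (by rw [← Nat.mul_mod]; exact hm.symm) with e | e
    · refine Or.inl (mem_centralizer_iff.2 fun z hz => ?_)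
      have h1 := hc z hz
      rw [pow_eq_of_modEq hcQ hz (show c ≡ 1 [MOD 11] from e), pow_one, mul_inv_eq_iff_eq_mul] at h1
      exact h1.symm
    · refine Or.inr (mem_centralizer_iff.2 fun z hz => ?_)
      have h1 := hc z hz
      rw [pow_eq_of_modEq hcQ hz (show c ≡ 10 [MOD 11] from e)] at h1
      have h2 : t * x * z * (t * x)⁻¹ = z := by
        rw [show t * x * z * (t * x)⁻¹ = t * (x * z * x⁻¹) * t⁻¹ by group, h1, hinv _ (pow_mem hz 10)]
        refine inv_eq_of_mul_eq_one_right ?_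
        rw [← pow_succ]
        exact orderOf_dvd_iff_pow_eq_one.1 ((Subgroup.orderOf_dvd_natCard Q hz).trans hcQ.dvd)
      exact (mul_inv_eq_iff_eq_mul.1 h2).symm
  have hodd : Odd (Nat.card ↥(centralizer (Q : Set G))) := by
    obtain ⟨c', -, hc'⟩ := X.exists_to h hQ
    exact hc' ▸ (X.toFrame.map c').odd_centralizer h
  have key : ∀ z ∈ centralizer (Q : Set G), z * z = 1 → z = 1 := fun z hz hzz =>
    orderOf_eq_one_iff.1 (Nat.eq_one_of_dvd_coprimes (Nat.coprime_two_left.2 hodd)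
      (orderOf_dvd_of_pow_eq_one (by rw [sq, hzz])) (Subgroup.orderOf_dvd_natCard _ hz))
  rcases hcases with hh | hh
  · rw [key x hh hx2']
    exact one_mem _
  · have h1 := key _ hh (by
      rw [mul_assoc, ← mul_assoc x, hxt.eq, mul_assoc t, hx2', mul_one, X.tt])
    rw [mul_eq_one_iff_eq_inv] at h1
    exact (mem_zpowers_two X.ord).2 (Or.inr (by rw [← inv_inv x, ← h1, X.toFrame.inv_self]))

/-- Such an element swaps the two members of a pair which contains it. -/
theorem invol_in_pair (X : Axis P Y A t f v A') (h : Core P) {x : G} (hxt : Commute x t)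
    (hx2 : x * x ∈ zpowers t) (hxn : x ∉ zpowers t) {Q : Subgroup G} (hQ : Q ∈ Phi P t) :
    Q.map (MulAut.conj x).toMonoidHom ≠ Q ∧ x ∈ Q ⊔ Q.map (MulAut.conj x).toMonoidHom ∧ orderOf x = 2 := by
  set R := Q.map (MulAut.conj x).toMonoidHom with hRdef
  have hne : R ≠ Q := fun e => hxn (X.mem_of_fix h hxt hx2 hQ (mem_normalizer_of_map e))
  have hR : R ∈ Phi P t := smul_mem_Phi hxt hQ
  have F' := X.toFrame.two h hQ.1 hR.1 (Ne.symm hne) hQ.2 hR.2
  have htZ := F'.t_mem h
  have htQ : t ∈ normalizer (Q : Set G) := hQ.2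
  have hxxQ : Q.map (MulAut.conj (x * x)).toMonoidHom = Q := map_conj_eq_self ((zpowers_le.2 htQ) hx2)
  have hxn' : x ∈ normalizer ((Q ⊔ R : Subgroup G) : Set G) := mem_normalizer_of_map (by
    rw [Subgroup.map_sup, ← hRdef, hRdef, ← map_conj_mul, hxxQ, sup_comm])
  obtain ⟨y, hy, hk⟩ := F'.pair.decompose hxn'
  set k := y⁻¹ * x with hkdef
  have hxy : x = y * k := by simp [hkdef]
  have hk1 : k = 1 := by
    have hxxZ : x * x ∈ Q ⊔ R := (zpowers_le.2 htZ) hx2
    have hky : Commute k y := (mem_centralizer_iff.1 hk y hy).symm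
    have hkk : k * k ∈ Q ⊔ R := by
      have e : k * k = (y * y)⁻¹ * (x * x) := by
        rw [hxy, show y * k * (y * k) = y * (k * y) * k by group, hky.eq]; group
      rw [e]
      exact mul_mem (inv_mem (mul_mem hy hy)) hxxZ
    have hkk1 := F'.pair.eq_one_of_centralizes hkk (mul_mem hk hk)
    have hodd := (F'.odd_centralizer h).of_dvd_nat (card_dvd_of_le (centralizer_le F'.le))
    exact orderOf_eq_one_iff.1 (Nat.eq_one_of_dvd_coprimes (Nat.coprime_two_left.2 hodd)
      (orderOf_dvd_of_pow_eq_one (by rw [sq, hkk1])) (Subgroup.orderOf_dvd_natCard _ hk))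
  rw [hk1, mul_one] at hxy
  refine ⟨hne, hxy ▸ hy, ?_⟩
  have hxx : x * x = 1 := by
    refine ((mem_zpowers_two X.ord).1 hx2).resolve_right fun e => ?_
    have hxZ : x ∈ Q ⊔ R := hxy ▸ hy
    have h4 : orderOf (⟨x, hxZ⟩ : ↥(Q ⊔ R)) = 4 := by
      haveI : Fact (Nat.Prime 2) := ⟨Nat.prime_two⟩
      rw [orderOf_mk, show (4 : ℕ) = 2 ^ (1 + 1) from rfl]
      refine orderOf_eq_prime_pow ?_ ?_
      · rw [pow_one, sq, e]
        intro h1
        have := X.ord
        rw [h1, orderOf_one] at this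
        omega
      · rw [pow_succ, pow_one, pow_mul, sq x, e, sq, X.tt]
    have := F'.pair.isJ.orderOf_mem (⟨x, hxZ⟩ : ↥(Q ⊔ R))
    rw [h4] at this
    simp at this
  haveI : Fact (Nat.Prime 2) := ⟨Nat.prime_two⟩
  exact orderOf_eq_prime (by rw [sq, hxx]) fun e => hxn (e ▸ one_mem _)

/-- All of them are conjugate to `v` modulo `t`. -/
theorem invol_conj (X : Axis P Y A t f v A') (h : Core P) {x : G} (hxt : Commute x t)
    (hx2 : x * x ∈ zpowers t) (hxn : x ∉ zpowers t) :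
    ∃ c : G, Commute c t ∧ (c * x * c⁻¹ = v ∨ c * x * c⁻¹ = v * t) := by
  have hA : A ∈ Phi P t := ⟨X.toFrame.member h.toSetting, X.toFrame.normA⟩
  obtain ⟨hne, hxZ, hord⟩ := X.invol_in_pair h hxt hx2 hxn hA
  obtain ⟨c, hct, hc⟩ := X.exists_pair_to h hA (smul_mem_Phi hxt hA) (Ne.symm hne)
  set x' := c⁻¹ * x * c
  have hx'Y : x' ∈ Y := by
    rw [← hc, Subgroup.mem_map_equiv, MulAut.conj_symm_apply] at hxZ
    exact hxZ
  have hx't : Commute x' t := ((hct.inv_left.mul_left hxt).mul_left hct)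
  have hxne : x ≠ t := fun e => hxn (e ▸ mem_zpowers t)
  obtain ⟨d, hd, hdx⟩ := X.pair.isJ.invol_conj (t := (⟨t, X.tY⟩ : ↥Y)) (x := ⟨x', hx'Y⟩) (w := ⟨v, X.vY⟩)
    (by rw [orderOf_mk]; exact X.ord)
    (by rw [orderOf_mk, show x' = MulAut.conj c⁻¹ x by simp [x'], MulEquiv.orderOf_eq, hord])
    (Subtype.ext hx't.eq)
    (fun e => hxne (by
      have e' : x' = t := congrArg Subtype.val e
      calc x = c * x' * c⁻¹ := by simp [x', mul_assoc]
        _ = t := by rw [e', hct.eq, mul_inv_cancel_right]))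
    (by rw [orderOf_mk]; exact X.ordv) (Subtype.ext X.vt.eq) (fun e => X.v_ne_t (congrArg Subtype.val e))
  refine ⟨d * c⁻¹, (show Commute (d : G) t from congrArg Subtype.val hd.eq).mul_left hct.inv_left, ?_⟩
  have e : (d : G) * c⁻¹ * x * ((d : G) * c⁻¹)⁻¹ = (d : G) * x' * (d : G)⁻¹ := by simp [x', mul_assoc]
  rw [e]
  rcases hdx with r | r
  · exact Or.inl (congrArg Subtype.val r)
  · exact Or.inr (congrArg Subtype.val r)

theorem v_notMem (X : Axis P Y A t f v A') : v ∉ zpowers t := fun hv => by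
  rcases (mem_zpowers_two X.ord).1 hv with e | e
  · have h := X.vA
    rw [e, map_conj_one] at h
    exact X.neA' h.symm
  · exact X.v_ne_t e

/-- The elements fixing `v` modulo `t` and normalising `Y`. -/
theorem card_modCentralizer_inf (X : Axis P Y A t f v A') :
    Nat.card ↥(modCentralizer t v X.tt X.vt ⊓ normalizer (Y : Set G) : Subgroup G) =
      8 * Nat.card ↥(centralizer (Y : Set G)) := by
  classical
  have h8 := X.pair.isJ.card_invol_normalizer (t := (⟨t, X.tY⟩ : ↥Y)) (w := ⟨v, X.vY⟩)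
    (by rw [orderOf_mk]; exact X.ord) (by rw [orderOf_mk]; exact X.ordv) (Subtype.ext X.vt.eq)
    (fun e => X.v_ne_t (congrArg Subtype.val e))
  rw [← h8, ← Nat.card_prod]
  let F : {c : ↥Y // Commute c ⟨t, X.tY⟩ ∧ (c * ⟨v, X.vY⟩ * c⁻¹ = ⟨v, X.vY⟩ ∨
      c * ⟨v, X.vY⟩ * c⁻¹ = ⟨v, X.vY⟩ * ⟨t, X.tY⟩)} × ↥(centralizer (Y : Set G)) →
      ↥(modCentralizer t v X.tt X.vt ⊓ normalizer (Y : Set G) : Subgroup G) := fun p =>
    ⟨(p.1.1 : G) * p.2, by
      refine ⟨⟨(show Commute (p.1.1 : G) t from congrArg Subtype.val p.1.2.1.eq).mul_left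
        (X.CY_comm p.2.2 X.tY), ?_⟩, mul_mem (le_normalizer p.1.1.2) (centralizer_le_normalizer _ p.2.2)⟩
      have e : (p.1.1 : G) * p.2 * v * ((p.1.1 : G) * p.2)⁻¹ = (p.1.1 : G) * v * (p.1.1 : G)⁻¹ := by
        rw [mul_assoc (p.1.1 : G), (X.CY_comm p.2.2 X.vY).eq]; group
      rw [e]
      rcases p.1.2.2 with r | r
      · exact Or.inl (congrArg Subtype.val r)
      · exact Or.inr (congrArg Subtype.val r)⟩
  refine (Nat.card_congr (Equiv.ofBijective F ⟨?_, ?_⟩)).symm
  · rintro ⟨⟨c, hc⟩, k⟩ ⟨⟨d, hd⟩, l⟩ e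
    have e1 : (c : G) * k = (d : G) * l := congrArg Subtype.val e
    have e2 : (d : G)⁻¹ * c = (l : G) * (k : G)⁻¹ := by
      rw [inv_mul_eq_iff_eq_mul, ← mul_assoc, ← e1, mul_inv_cancel_right]
    have e3 := X.pair.eq_one_of_centralizes (mul_mem (inv_mem d.2) c.2) (e2 ▸ mul_mem l.2 (inv_mem k.2))
    have hcd : (c : G) = d := (inv_mul_eq_one.1 e3).symm
    rw [hcd, mul_right_inj] at e1
    exact Prod.ext (Subtype.ext (Subtype.ext hcd)) (Subtype.ext e1)
  · rintro ⟨g, ⟨hgt, hgv⟩, hgY⟩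
    obtain ⟨y, hy, hk⟩ := X.pair.decompose hgY
    have hgy : g = y * (y⁻¹ * g) := by group
    have hkt : Commute (y⁻¹ * g) t := X.CY_comm hk X.tY
    have hyt : Commute y t := by
      have e : y = g * (y⁻¹ * g)⁻¹ := by group
      rw [e]; exact hgt.mul_left hkt.inv_left
    have e : y * v * y⁻¹ = g * v * g⁻¹ := by
      conv_rhs => rw [hgy, show y * (y⁻¹ * g) * v * (y * (y⁻¹ * g))⁻¹ =
        y * ((y⁻¹ * g) * v * (y⁻¹ * g)⁻¹) * y⁻¹ by group, (X.CY_comm hk X.vY).eq, mul_inv_cancel_right]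
    refine ⟨(⟨⟨y, hy⟩, Subtype.ext hyt.eq, ?_⟩, ⟨y⁻¹ * g, hk⟩), Subtype.ext hgy.symm⟩
    rcases hgv with r | r
    · exact Or.inl (Subtype.ext (e.trans r))
    · exact Or.inr (Subtype.ext (e.trans r))

/-- Counting the pairs through `v`: the class of `v` modulo `t` has `15 m` elements. -/
theorem card_modCentralizer (X : Axis P Y A t f v A') (h : Core P) :
    12 ∣ 11 * mOf Y A t + 1 ∧ 3 * Nat.card ↥(modCentralizer t v X.tt X.vt) =
      2 * ((11 * mOf Y A t + 1) * Nat.card ↥(centralizer (Y : Set G))) := by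
  classical
  set L := modCentralizer t v X.tt X.vt
  have hA : A ∈ Phi P t := ⟨X.toFrame.member h.toSetting, X.toFrame.normA⟩
  have hv2 : v * v ∈ zpowers t := by rw [X.vsq]; exact one_mem _
  let bl : Phi P t → Subgroup G := fun Q => Q.1 ⊔ Q.1.map (MulAut.conj v).toMonoidHom
  have hpr : ∀ Q : Phi P t, Q.1.map (MulAut.conj v).toMonoidHom ≠ Q.1 ∧ v ∈ bl Q := fun Q =>
    ⟨(X.invol_in_pair h X.vt hv2 X.v_notMem Q.2).1, (X.invol_in_pair h X.vt hv2 X.v_notMem Q.2).2.1⟩
  let Bl := Set.range bl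
  have hfib : ∀ Z : Bl, Nat.card {Q : Phi P t // bl Q = Z.1} = 12 := by
    rintro ⟨Z, Q, rfl⟩
    obtain ⟨c, hct, hc⟩ := X.exists_pair_to h Q.2 (smul_mem_Phi X.vt Q.2) (Ne.symm (hpr Q).1)
    rw [← X.card_inside]
    refine Nat.card_congr
      { toFun := fun R => ⟨R.1.1.map (MulAut.conj c⁻¹).toMonoidHom, ?_,
          by rw [Subgroup.card_map_of_injective (MulEquiv.injective _), member_card h.toSetting R.1.2.1],
          (smul_mem_Phi hct.inv_left R.1.2).2⟩
        invFun := fun R => ⟨⟨R.1.map (MulAut.conj c).toMonoidHom,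
          smul_mem_Phi hct ⟨X.pair.member h.toSetting R.2.1 R.2.2.1, R.2.2.2⟩⟩, ?_⟩
        left_inv := fun R => Subtype.ext (Subtype.ext (by
          show (R.1.1.map _).map _ = _
          rw [← map_conj_mul, mul_inv_cancel, map_conj_one]))
        right_inv := fun R => Subtype.ext (by
          show (R.1.map _).map _ = _
          rw [← map_conj_mul, inv_mul_cancel, map_conj_one]) }
    · have hle : R.1.1 ≤ bl Q := (le_sup_left : R.1.1 ≤ bl R.1).trans (le_of_eq R.2)
      have := Subgroup.map_mono (f := (MulAut.conj c⁻¹).toMonoidHom) (hle.trans hc.ge)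
      rwa [← map_conj_mul, inv_mul_cancel, map_conj_one] at this
    · set R' : Phi P t := ⟨R.1.map (MulAut.conj c).toMonoidHom,
        smul_mem_Phi hct ⟨X.pair.member h.toSetting R.2.1 R.2.2.1, R.2.2.2⟩⟩
      have hle : R'.1 ≤ bl Q := (Subgroup.map_mono R.2.1).trans (le_of_eq hc)
      have hvQ : v ∈ bl Q := (hpr Q).2
      have hle' : R'.1.map (MulAut.conj v).toMonoidHom ≤ bl Q := by
        rintro _ ⟨y, hy, rfl⟩
        exact mul_mem (mul_mem hvQ (hle hy)) (inv_mem hvQ)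
      have F' := X.toFrame.two h Q.2.1 (Q.2.1.conj v) (Ne.symm (hpr Q).1) Q.2.2 (smul_mem_Phi X.vt Q.2).2
      exact (F'.move hle (member_card h.toSetting R'.2.1) R'.2.2).gen h hle'
        (member_card h.toSetting (R'.2.1.conj v)) (Ne.symm (hpr R').1) (smul_mem_Phi X.vt R'.2).2
  have hn : Nat.card (Phi P t) = 12 * Nat.card Bl := by
    haveI := Fintype.ofFinite Bl
    let π : Phi P t → Bl := fun Q => ⟨bl Q, Q, rfl⟩
    rw [← Nat.card_congr (Equiv.sigmaFiberEquiv π), Nat.card_sigma]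
    rw [Finset.sum_congr rfl (g := fun _ => 12) (fun Z _ => ?_)]
    · rw [Finset.sum_const, Finset.card_univ, smul_eq_mul, ← Nat.card_eq_fintype_card, mul_comm]
    · rw [← hfib Z]
      exact Nat.card_congr (Equiv.subtypeEquivRight fun Q => ⟨fun e => congrArg Subtype.val e, fun e => Subtype.ext e⟩)
  have hYbl : Y = bl ⟨A, hA⟩ := by
    show Y = A ⊔ A.map (MulAut.conj v).toMonoidHom
    rw [X.vA, X.gen' h]
  have hcomm : ∀ (l : ↥L) (Q : Phi P t),
      ((bl Q).map (MulAut.conj (l : G)).toMonoidHom) =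
        bl ⟨Q.1.map (MulAut.conj (l : G)).toMonoidHom, smul_mem_Phi l.2.1 Q.2⟩ := by
    intro l Q
    show (Q.1 ⊔ Q.1.map (MulAut.conj v).toMonoidHom).map (MulAut.conj (l : G)).toMonoidHom =
      Q.1.map (MulAut.conj (l : G)).toMonoidHom ⊔
        (Q.1.map (MulAut.conj (l : G)).toMonoidHom).map (MulAut.conj v).toMonoidHom
    rw [Subgroup.map_sup, ← map_conj_mul, ← map_conj_mul]
    congr 1
    rcases l.2.2 with r | r
    · rw [mul_inv_eq_iff_eq_mul] at r
      rw [r]
    · rw [mul_inv_eq_iff_eq_mul] at r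
      rw [r, mul_assoc, ← (show Commute (l : G) t from l.2.1).eq, ← mul_assoc, map_conj_mul,
        map_conj_eq_self Q.2.2]
  let M : ↥L → Bl := fun l => ⟨Y.map (MulAut.conj (l : G)).toMonoidHom,
    ⟨_, (hcomm l ⟨A, hA⟩).symm.trans (by rw [← hYbl])⟩⟩
  set S := ((L ⊓ normalizer (Y : Set G) : Subgroup G)).subgroupOf L
  have hM : ∀ a b : ↥L, M a = M b ↔ a⁻¹ * b ∈ S := by
    intro a b
    rw [mem_subgroupOf, Subtype.ext_iff]
    constructor
    · intro e
      refine ⟨(a⁻¹ * b).2, mem_normalizer_of_map ?_⟩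
      rw [Subgroup.coe_mul, Subgroup.coe_inv, map_conj_mul,
        show Y.map (MulAut.conj (b : G)).toMonoidHom = Y.map (MulAut.conj (a : G)).toMonoidHom from e.symm,
        ← map_conj_mul, inv_mul_cancel, map_conj_one]
    · intro e
      have h2 := map_conj_eq_self e.2
      rw [Subgroup.coe_mul, Subgroup.coe_inv, map_conj_mul] at h2
      show Y.map (MulAut.conj (a : G)).toMonoidHom = Y.map (MulAut.conj (b : G)).toMonoidHom
      conv_lhs => rw [← h2]
      rw [← map_conj_mul, mul_inv_cancel, map_conj_one]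
  have hsurj : Function.Surjective M := by
    rintro ⟨Z, Q, rfl⟩
    obtain ⟨c, hct, hc⟩ := X.exists_pair_to h Q.2 (smul_mem_Phi X.vt Q.2) (Ne.symm (hpr Q).1)
    set v' := c⁻¹ * v * c
    have hv'Y : v' ∈ Y := by
      have := (hpr Q).2
      change v ∈ Q.1 ⊔ _ at this
      rwa [← hc, Subgroup.mem_map_equiv, MulAut.conj_symm_apply] at this
    obtain ⟨d, hd, hdx⟩ := X.pair.isJ.invol_conj (t := (⟨t, X.tY⟩ : ↥Y)) (x := ⟨v', hv'Y⟩) (w := ⟨v, X.vY⟩)
      (by rw [orderOf_mk]; exact X.ord)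
      (by rw [orderOf_mk, show v' = MulAut.conj c⁻¹ v by simp [v'], MulEquiv.orderOf_eq, X.ordv])
      (Subtype.ext ((hct.inv_left.mul_left X.vt).mul_left hct).eq)
      (fun e => X.v_ne_t (by
        have e' : v' = t := congrArg Subtype.val e
        calc v = c * v' * c⁻¹ := by simp [v', mul_assoc]
          _ = t := by rw [e', hct.eq, mul_inv_cancel_right]))
      (by rw [orderOf_mk]; exact X.ordv) (Subtype.ext X.vt.eq) (fun e => X.v_ne_t (congrArg Subtype.val e))
    have hdt : Commute (d : G) t := congrArg Subtype.val hd.eq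
    have hl : (c * (d : G)⁻¹)⁻¹ ∈ L := by
      refine ⟨(hct.mul_left hdt.inv_left).inv_left, ?_⟩
      have e : (c * (d : G)⁻¹)⁻¹ * v * ((c * (d : G)⁻¹)⁻¹)⁻¹ = (d : G) * v' * (d : G)⁻¹ := by
        simp [v', mul_assoc]
      rw [e]
      rcases hdx with r | r
      · exact Or.inl (congrArg Subtype.val r)
      · exact Or.inr (congrArg Subtype.val r)
    refine ⟨⟨c * (d : G)⁻¹, by simpa using inv_mem hl⟩, Subtype.ext ?_⟩
    show Y.map (MulAut.conj (c * (d : G)⁻¹)).toMonoidHom = bl Q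
    rw [map_conj_mul, map_conj_eq_self (le_normalizer (inv_mem d.2))]
    exact hc
  have hBl : Nat.card Bl = S.index := by
    rw [Subgroup.index]
    refine (Nat.card_congr (Equiv.ofBijective
      (Quotient.lift (s := QuotientGroup.leftRel S) M
        (fun a b hab => (hM a b).2 (QuotientGroup.leftRel_apply.1 hab))) ⟨?_, ?_⟩)).symm
    · intro x y hxy
      induction x using Quotient.inductionOn
      induction y using Quotient.inductionOn
      exact Quotient.sound (QuotientGroup.leftRel_apply.2 ((hM _ _).1 hxy))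
    · intro Z
      obtain ⟨l, hl⟩ := hsurj Z
      exact ⟨Quotient.mk _ l, hl⟩
  have hL := S.card_mul_index
  rw [Nat.card_congr (subgroupOfEquivOfLe (show L ⊓ normalizer (Y : Set G) ≤ L from inf_le_left)).toEquiv,
    X.card_modCentralizer_inf, ← hBl] at hL
  rw [X.card_Phi h] at hn
  refine ⟨⟨_, hn⟩, ?_⟩
  rw [← hL, hn]
  ring

end Axis

end Cfsg.Agent.ElevenPairs.JCase
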