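import Cfsg.Agent.Lib.Characters.Counting
import Cfsg.Agent.Lib.Characters.Induction
import Cfsg.Agent.Lib.Characters.Integrality
import Cfsg.Agent.BlockCharsA.DefectZeroVanish
import Cfsg.Agent.Lib.ElevenPairs.JCase.Arith

/-!
# The exceptional characters of the centraliser of an involution
-/

set_option autoImplicit false
set_option linter.unusedSectionVars false
set_option linter.style.haveILetI false

namespace Cfsg.Agent.ElevenPairs.JCase

open Subgroup Cfsg.Agent.Characters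
open scoped ComplexConjugate

universe u

/-- What is known about the quotient of the centraliser of an involution by that involution. -/
structure CharData (H : Type u) [Group H] (m K : ℕ) (f v : H) (Kc : Subgroup H) : Prop where
  one_lt : 1 < m
  card : Nat.card H = 5 * (11 * m + 1) * m * K
  odd : Odd K
  dvd : 5 * K ∣ m - 1
  not_five : ¬ 5 ∣ K
  twelve : 12 ∣ 11 * m + 1
  ordf : orderOf f = 5
  cardKc : Nat.card Kc = K
  cardC : Nat.card ↥(centralizer ({f} : Set H)) = 5 * K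
  commKf : ∀ k ∈ Kc, Commute k f
  normf : ∀ c : H, c * f * c⁻¹ ∈ zpowers f → c * f * c⁻¹ = f ∨ c * f * c⁻¹ = f⁻¹
  sqv : v * v = 1
  invf : v * f * v⁻¹ = f⁻¹
  commKv : ∀ k ∈ Kc, Commute v k
  oneClass : ∀ x y : H, orderOf x = 2 → orderOf y = 2 → IsConj x y
  cardCv : 3 * Nat.card ↥(centralizer ({v} : Set H)) = (11 * m + 1) * K
  mixed : ∀ q q' : ℕ, q.Prime → q'.Prime → q ∣ m → q' ∣ m → q ≠ q' → ∃ x : H, q * q' ∣ orderOf x

/-- A fifth root of unity. -/
noncomputable def ζ : ℂ := Complex.exp (2 * Real.pi * Complex.I / (5 : ℕ))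

theorem ζ_prim : IsPrimitiveRoot ζ 5 := Complex.isPrimitiveRoot_exp 5 (by norm_num)

theorem ζ_five : ζ ^ 5 = 1 := ζ_prim.pow_eq_one

theorem ζ_sum : 1 + ζ + ζ ^ 2 + ζ ^ 3 + ζ ^ 4 = 0 := by
  have := ζ_prim.geom_sum_eq_zero (by norm_num)
  simp only [Finset.sum_range_succ, Finset.sum_range_zero, pow_zero, pow_one, zero_add] at this
  linear_combination this

theorem ζ_conj (i : ℕ) : conj (ζ ^ i) = ζ ^ (4 * i) := by
  have hn : ‖ζ‖ = 1 := ζ_prim.norm'_eq_one (by norm_num)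
  have h4 : conj ζ = ζ ^ 4 := by
    rw [← Complex.inv_eq_conj hn]
    exact inv_eq_of_mul_eq_one_right (by rw [← pow_succ']; exact ζ_five)
  rw [map_pow, h4, ← pow_mul]

variable {H : Type u} [Group H] [Finite H] {m K : ℕ} {f v : H} {Kc : Subgroup H}

/-- Value of a character at an involution. -/
theorem exists_int_at_involution {χ : H → ℂ} (hχ : Cfsg.IsCharacter H χ) {u : H} (hu : orderOf u = 2) :
    ∃ a : ℤ, χ u = (a : ℂ) := by
  obtain ⟨n, ρ, rfl⟩ := hχ
  obtain ⟨w, hw, hk⟩ := exists_rootsOfUnity_sum ρ u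
  have h1 := hk 1
  rw [pow_one] at h1
  have hsign : ∀ i, ∃ z : ℤ, w i = (z : ℂ) := by
    intro i
    have := hw i
    rw [hu] at this
    rcases sq_eq_one_iff.1 this with h | h
    · exact ⟨1, by simp [h]⟩
    · exact ⟨-1, by simp [h]⟩
  choose z hz using hsign
  exact ⟨∑ i, z i, by rw [h1]; push_cast; exact Finset.sum_congr rfl fun i _ => by rw [pow_one, hz]⟩

namespace CharData

variable (D : CharData H m K f v Kc)
include D

theorem f_five : f ^ 5 = 1 := D.ordf ▸ pow_orderOf_eq_one f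

theorem kpow {k : H} (hk : k ∈ Kc) : k ^ K = 1 :=
  orderOf_dvd_iff_pow_eq_one.1 (D.cardKc ▸ Subgroup.orderOf_dvd_natCard Kc hk)

theorem pow_K {k : H} (hk : k ∈ Kc) (i : ℕ) : (f ^ i * k) ^ K = f ^ (i * K) := by
  rw [((D.commKf k hk).symm.pow_left i).mul_pow, D.kpow hk, mul_one, ← pow_mul]

theorem inj_pow {i j : ℕ} (h : f ^ i = f ^ j) : i ≡ j [MOD 5] := by
  rwa [← D.ordf, ← pow_eq_pow_iff_modEq]

theorem inter {k : H} (hk : k ∈ Kc) {i : ℕ} (h : f ^ i = k) : k = 1 := by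
  have h5 : orderOf k ∣ 5 := orderOf_dvd_of_pow_eq_one (by
    rw [← h, ← pow_mul, mul_comm, pow_mul, D.f_five, one_pow])
  have hK : orderOf k ∣ K := D.cardKc ▸ Subgroup.orderOf_dvd_natCard Kc hk
  exact orderOf_eq_one_iff.1 (Nat.eq_one_of_dvd_coprimes
    ((Nat.Prime.coprime_iff_not_dvd Nat.prime_five).2 D.not_five) h5 hK)

/-- The elements of `C(f)`. -/
theorem el_bijective : Function.Bijective (fun p : Fin 5 × ↥Kc =>
    (⟨f ^ (p.1 : ℕ) * (p.2 : H), mem_centralizer_singleton_iff.2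
      ((Commute.refl f).pow_left _ |>.mul_left (D.commKf _ p.2.2)).eq⟩ :
      ↥(centralizer ({f} : Set H)))) := by
  rw [Nat.bijective_iff_injective_and_card]
  refine ⟨?_, by rw [Nat.card_prod, Nat.card_fin, D.cardKc, D.cardC]⟩
  rintro ⟨i, k, hk⟩ ⟨j, l, hl⟩ h
  have h1 : f ^ (i : ℕ) * k = f ^ (j : ℕ) * l := congrArg Subtype.val h
  have h2 : f ^ ((i : ℕ) + 4 * (j : ℕ)) = l * k⁻¹ := by
    rw [eq_mul_inv_iff_mul_eq, add_comm, pow_add, mul_assoc, h1, ← mul_assoc, ← pow_add,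
      show 4 * (j : ℕ) + j = 5 * j by ring, pow_mul, D.f_five, one_pow, one_mul]
  have h3 : l = k := mul_inv_eq_one.1 (D.inter (mul_mem hl (inv_mem hk)) h2)
  subst h3
  have h4 := D.inj_pow (mul_right_cancel h1)
  have hi := i.2
  have hj := j.2
  unfold Nat.ModEq at h4
  rw [Nat.mod_eq_of_lt hi, Nat.mod_eq_of_lt hj] at h4
  exact Prod.ext (Fin.ext h4) rfl

/-- The product decomposition of `C(f)`. -/
noncomputable def el : Fin 5 × ↥Kc ≃ ↥(centralizer ({f} : Set H)) := Equiv.ofBijective _ D.el_bijective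

theorem el_val (p : Fin 5 × ↥Kc) : ((D.el p : ↥(centralizer ({f} : Set H))) : H) = f ^ (p.1 : ℕ) * p.2 := rfl

/-- The linear character of `C(f)` with kernel `Kc`. -/
noncomputable def lam : ↥(centralizer ({f} : Set H)) →* ℂ where
  toFun g := ζ ^ ((D.el.symm g).1 : ℕ)
  map_one' := by
    have : D.el.symm 1 = (0, 1) := by rw [Equiv.symm_apply_eq]; exact Subtype.ext (by simp [el_val])
    rw [this]; simp
  map_mul' a b := by
    obtain ⟨⟨i, k⟩, rfl⟩ := D.el.surjective a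
    obtain ⟨⟨j, l⟩, rfl⟩ := D.el.surjective b
    have h : D.el (i, k) * D.el (j, l) = D.el (i + j, k * l) := by
      refine Subtype.ext ?_
      have hp : f ^ ((i + j : Fin 5) : ℕ) = f ^ ((i : ℕ) + j) := by
        rw [Fin.val_add]
        conv_rhs => rw [← pow_mod_orderOf, D.ordf]
      show f ^ (i : ℕ) * (k : H) * (f ^ (j : ℕ) * (l : H)) = f ^ ((i + j : Fin 5) : ℕ) * ((k : H) * l)
      rw [hp, pow_add]
      calc f ^ (i : ℕ) * (k : H) * (f ^ (j : ℕ) * (l : H)) = f ^ (i : ℕ) * ((k : H) * f ^ (j : ℕ)) * l := by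
            group
        _ = _ := by rw [((D.commKf _ k.2).pow_right _).eq]; group
    rw [h]
    simp only [Equiv.symm_apply_apply]
    rw [← pow_add, Fin.val_add]
    conv_rhs => rw [← pow_mod_orderOf, ← ζ_prim.eq_orderOf]

theorem lam_el (p : Fin 5 × ↥Kc) : D.lam (D.el p) = ζ ^ (p.1 : ℕ) := by simp [lam]

/-- `1 - λ`. -/
noncomputable def phi : ↥(centralizer ({f} : Set H)) → ℂ := fun g => 1 - D.lam g

theorem phi_el (p : Fin 5 × ↥Kc) : D.phi (D.el p) = 1 - ζ ^ (p.1 : ℕ) := by rw [phi, D.lam_el]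

theorem phi_isGen : Cfsg.IsGeneralizedCharacter ↥(centralizer ({f} : Set H)) D.phi :=
  ⟨_, _, isCharacter_one, isCharacter_of_isIrr (isIrrCharacter_monoidHom D.lam), rfl⟩

theorem phi_eq_zero_or (g : ↥(centralizer ({f} : Set H))) :
    D.phi g = 0 ∨ ∃ (i : Fin 5) (k : ↥Kc), i ≠ 0 ∧ (g : H) = f ^ (i : ℕ) * k := by
  obtain ⟨⟨i, k⟩, rfl⟩ := D.el.surjective g
  by_cases hi : i = 0
  · left; rw [phi_el]; simp [hi]
  · exact Or.inr ⟨i, k, hi, D.el_val _⟩

theorem sum_C [Fintype ↥(centralizer ({f} : Set H))] [Fintype ↥Kc]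
    (F : ↥(centralizer ({f} : Set H)) → ℂ) (F' : ℕ → ℂ) (hF : ∀ p : Fin 5 × ↥Kc, F (D.el p) = F' p.1) :
    ∑ g, F g = (K : ℂ) * (F' 0 + F' 1 + F' 2 + F' 3 + F' 4) := by
  rw [← D.el.sum_comp, Finset.sum_congr rfl fun p _ => hF p, Fintype.sum_prod_type]
  simp only [Finset.sum_const, Finset.card_univ, ← Nat.card_eq_fintype_card, D.cardKc, nsmul_eq_mul,
    ← Finset.mul_sum, Fin.sum_univ_five]
  rfl

/-- An element conjugating a section element into `C(f)` normalises `<f>`. -/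
theorem conj_section {x : H} {i : Fin 5} {k : ↥Kc} (hi : i ≠ 0) {j : ℕ} {l : H} (hl : l ∈ Kc)
    (h : x⁻¹ * (f ^ (i : ℕ) * (k : H)) * x = f ^ j * l) : x⁻¹ * f * x ∈ zpowers f := by
  have h1 : (x⁻¹ * (f ^ (i : ℕ) * (k : H)) * x) ^ K = (f ^ j * l) ^ K := congrArg (· ^ K) h
  rw [D.pow_K hl, show x⁻¹ * (f ^ (i : ℕ) * (k : H)) * x = MulAut.conj x⁻¹ (f ^ (i : ℕ) * (k : H)) by simp,
    ← map_pow, D.pow_K k.2, map_pow] at h1
  have hco : Nat.Coprime ((i : ℕ) * K) (orderOf (MulAut.conj x⁻¹ f)) := by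
    rw [MulEquiv.orderOf_eq, D.ordf, Nat.coprime_comm, Nat.Prime.coprime_iff_not_dvd Nat.prime_five,
      Nat.Prime.dvd_mul Nat.prime_five]
    rintro (h5 | h5)
    · exact hi (Fin.ext (Nat.eq_zero_of_dvd_of_lt h5 i.2))
    · exact D.not_five h5
  obtain ⟨c, hc⟩ := exists_pow_eq_self_of_coprime hco
  rw [h1, ← pow_mul] at hc
  have : MulAut.conj x⁻¹ f ∈ zpowers f := hc ▸ pow_mem (mem_zpowers f) _
  simpa using this

theorem v_mem_iff (x : H) : x⁻¹ * f * x = f⁻¹ ↔ v * x ∈ centralizer ({f} : Set H) := by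
  have hvi : v⁻¹ = v := inv_eq_of_mul_eq_one_right D.sqv
  rw [mem_centralizer_singleton_iff]
  constructor
  · intro h
    have h' : x * f = f⁻¹ * x := by
      have h3 : x⁻¹ * f⁻¹ * x = f := by
        have h2 := congrArg (·⁻¹) h
        simp only [mul_inv_rev, inv_inv] at h2
        rwa [← mul_assoc] at h2
      nth_rewrite 1 [← h3]
      group
    calc v * x * f = v * f⁻¹ * x := by rw [mul_assoc, h', mul_assoc]
      _ = v * f⁻¹ * v⁻¹ * (v * x) := by group
      _ = f * (v * x) := by rw [show v * f⁻¹ * v⁻¹ = (v * f * v⁻¹)⁻¹ by group, D.invf, inv_inv]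
  · intro h
    have h' : x * f * x⁻¹ = f⁻¹ := by
      calc x * f * x⁻¹ = v⁻¹ * (v * x * f) * x⁻¹ := by group
        _ = v⁻¹ * f * v := by rw [h]; group
        _ = f⁻¹ := by rw [hvi]; nth_rewrite 2 [← hvi]; exact D.invf
    calc x⁻¹ * f * x = x⁻¹ * (x * f * x⁻¹)⁻¹ * x := by rw [h', inv_inv]
      _ = f⁻¹ := by group

theorem lam_conj (x g : ↥(centralizer ({f} : Set H))) : D.lam (x⁻¹ * g * x) = D.lam g := by
  rw [map_mul, map_mul, mul_comm, ← mul_assoc, ← map_mul, mul_inv_cancel, map_one, one_mul]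

theorem el_inv_f (p : Fin 5 × ↥Kc) :
    v * (f ^ (p.1 : ℕ) * (p.2 : H)) * v⁻¹ = f ^ (4 * (p.1 : ℕ)) * (p.2 : H) := by
  have hf4 : f⁻¹ = f ^ 4 := inv_eq_of_mul_eq_one_right (by rw [← pow_succ']; exact D.f_five)
  calc v * (f ^ (p.1 : ℕ) * (p.2 : H)) * v⁻¹
      = (v * f * v⁻¹) ^ (p.1 : ℕ) * (v * (p.2 : H) * v⁻¹) := by rw [conj_pow]; group
    _ = f ^ (4 * (p.1 : ℕ)) * (p.2 : H) := by
        rw [D.invf, hf4, ← pow_mul, (D.commKv _ p.2.2).eq, mul_inv_cancel_right]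

/-- The induced function on the section of `f`. -/
theorem ind_el [Fintype H] [Fintype ↥(centralizer ({f} : Set H))] (p : Fin 5 × ↥Kc) (hp : p.1 ≠ 0) :
    Cfsg.indFun (centralizer ({f} : Set H)) D.phi (D.el p : H) = 2 - ζ ^ (p.1 : ℕ) - ζ ^ (4 * (p.1 : ℕ)) := by
  classical
  set C := centralizer ({f} : Set H)
  have key : ∀ x : H, Cfsg.extendByZero C D.phi (x⁻¹ * (D.el p : H) * x) =
      (if x ∈ C then 1 - ζ ^ (p.1 : ℕ) else 0) + (if v * x ∈ C then 1 - ζ ^ (4 * (p.1 : ℕ)) else 0) := by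
    intro x
    by_cases hx : x ∈ C
    · have hvx : v * x ∉ C := by
        intro hvx
        have h1 := (D.v_mem_iff x).2 hvx
        have h2 : x⁻¹ * f * x = f := by
          rw [mul_assoc, ← mem_centralizer_singleton_iff.1 hx, inv_mul_cancel_left]
        rw [h2, eq_inv_iff_mul_eq_one, ← sq] at h1
        have := orderOf_dvd_of_pow_eq_one h1
        rw [D.ordf] at this
        omega
      rw [if_pos hx, if_neg hvx, add_zero,
        show x⁻¹ * (D.el p : H) * x = (((⟨x, hx⟩ : ↥C)⁻¹ * D.el p * ⟨x, hx⟩ : ↥C) : H) from rfl,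
        Cfsg.extendByZero, Subtype.val_injective.extend_apply, phi, D.lam_conj, D.lam_el]
    by_cases hvx : v * x ∈ C
    · rw [if_neg hx, if_pos hvx, zero_add]
      have hq : f ^ ((4 * (p.1 : ℕ)) % 5) = f ^ (4 * (p.1 : ℕ)) := by
        conv_rhs => rw [← pow_mod_orderOf, D.ordf]
      set q : Fin 5 × ↥Kc := (⟨(4 * (p.1 : ℕ)) % 5, Nat.mod_lt _ (by norm_num)⟩, p.2) with hqdef
      have e : x⁻¹ * (D.el p : H) * x = (((⟨v * x, hvx⟩ : ↥C)⁻¹ * D.el q * ⟨v * x, hvx⟩ : ↥C) : H) := by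
        show x⁻¹ * (f ^ (p.1 : ℕ) * (p.2 : H)) * x =
          (v * x)⁻¹ * (f ^ ((4 * (p.1 : ℕ)) % 5) * (p.2 : H)) * (v * x)
        rw [hq, ← D.el_inv_f p]
        group
      rw [e, Cfsg.extendByZero, Subtype.val_injective.extend_apply, phi, D.lam_conj, D.lam_el]
      congr 1
      show ζ ^ ((4 * (p.1 : ℕ)) % 5) = ζ ^ (4 * (p.1 : ℕ))
      conv_rhs => rw [← pow_mod_orderOf, ← ζ_prim.eq_orderOf]
    rw [if_neg hx, if_neg hvx, add_zero]
    by_cases hmem : x⁻¹ * (D.el p : H) * x ∈ C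
    · rw [Cfsg.extendByZero]
      rw [show x⁻¹ * (D.el p : H) * x = ((⟨_, hmem⟩ : ↥C) : H) from rfl,
        Subtype.val_injective.extend_apply]
      rcases D.phi_eq_zero_or ⟨_, hmem⟩ with h | ⟨i, k, hi, he⟩
      · exact h
      exfalso
      have hz := D.conj_section (k := p.2) hp k.2
        (show x⁻¹ * (f ^ (p.1 : ℕ) * (p.2 : H)) * x = f ^ (i : ℕ) * (k : H) from he)
      rcases D.normf x⁻¹ (by rwa [inv_inv]) with h | h
      · rw [inv_inv] at h
        refine hx (mem_centralizer_singleton_iff.2 ?_)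
        rw [mul_assoc, inv_mul_eq_iff_eq_mul] at h
        exact h.symm
      · rw [inv_inv] at h
        exact hvx ((D.v_mem_iff x).1 h)
    · exact Function.extend_apply' _ _ _ fun ⟨g, hg⟩ => hmem (hg ▸ g.2)
  have hC : (Nat.card ↥C : ℂ) ≠ 0 := Nat.cast_ne_zero.2 Nat.card_pos.ne'
  have hcount : ∀ c : ℂ, ∑ x : H, (if x ∈ C then c else 0) = (Nat.card ↥C : ℂ) * c := fun c => by
    rw [← Finset.sum_filter, Finset.sum_const, nsmul_eq_mul, Nat.card_eq_fintype_card, Fintype.card_subtype]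
  unfold Cfsg.indFun
  rw [Finset.sum_congr rfl fun x _ => key x, Finset.sum_add_distrib, hcount,
    show (∑ x : H, if v * x ∈ C then 1 - ζ ^ (4 * (p.1 : ℕ)) else 0) =
      ∑ x : H, if x ∈ C then 1 - ζ ^ (4 * (p.1 : ℕ)) else 0 from
      Fintype.sum_equiv (Equiv.mulLeft v) _ _ (fun x => rfl), hcount,
    ← mul_add, inv_mul_cancel_left₀ hC]
  ring

/-- The induced function vanishes outside the sections. -/
theorem ind_zero [Fintype H] {g : H} (hg : ¬ (5 ∣ orderOf g ∧ orderOf g ∣ 5 * K)) :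
    Cfsg.indFun (centralizer ({f} : Set H)) D.phi g = 0 := by
  unfold Cfsg.indFun
  rw [Finset.sum_eq_zero, mul_zero]
  intro x _
  by_contra hne
  have hmem : ∃ a : ↥(centralizer ({f} : Set H)), (a : H) = x⁻¹ * g * x := by
    by_contra h'
    exact hne (Function.extend_apply' _ _ _ h')
  obtain ⟨a, ha⟩ := hmem
  rw [Cfsg.extendByZero, ← ha, Subtype.val_injective.extend_apply] at hne
  rcases D.phi_eq_zero_or a with h | ⟨i, k, hi, he⟩
  · exact hne h
  have hord : orderOf g = orderOf (a : H) := by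
    rw [ha, show x⁻¹ * g * x = MulAut.conj x⁻¹ g by simp, MulEquiv.orderOf_eq]
  have hfi : orderOf (f ^ (i : ℕ)) = 5 := by
    haveI : Fact (Nat.Prime 5) := ⟨Nat.prime_five⟩
    refine orderOf_eq_prime (by rw [← pow_mul, mul_comm, pow_mul, D.f_five, one_pow]) fun e => hi ?_
    have := orderOf_dvd_of_pow_eq_one e
    rw [D.ordf] at this
    exact Fin.ext (Nat.eq_zero_of_dvd_of_lt this i.2)
  have hco : Nat.Coprime (orderOf (f ^ (i : ℕ))) (orderOf (k : H)) := by
    rw [hfi, Nat.Prime.coprime_iff_not_dvd Nat.prime_five]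
    exact fun h => D.not_five (h.trans (D.cardKc ▸ Subgroup.orderOf_dvd_natCard Kc k.2))
  have hmul := ((D.commKf _ k.2).symm.pow_left (i : ℕ)).orderOf_mul_eq_mul_orderOf_of_coprime hco
  rw [← he, ← hord, hfi] at hmul
  exact hg ⟨hmul ▸ dvd_mul_right _ _,
    hmul ▸ Nat.mul_dvd_mul_left 5 (D.cardKc ▸ Subgroup.orderOf_dvd_natCard Kc k.2)⟩

theorem K_pos : 0 < K := D.cardKc ▸ Nat.card_pos

theorem ind_inner_one [Fintype H] [Fintype ↥(centralizer ({f} : Set H))] :
    Cfsg.classInner (Cfsg.indFun (centralizer ({f} : Set H)) D.phi) (fun _ => (1 : ℂ)) = 1 := by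
  classical
  haveI := Fintype.ofFinite ↥Kc
  rw [frobenius_reciprocity _ _ (fun _ _ => rfl), classInner_def, D.cardC,
    D.sum_C _ (fun i => (1 - ζ ^ i) * conj (1 : ℂ)) (fun p => by rw [D.phi_el])]
  have hK : (K : ℂ) ≠ 0 := Nat.cast_ne_zero.2 D.K_pos.ne'
  push_cast
  simp only [map_one, mul_one]
  field_simp
  linear_combination -ζ_sum

theorem ind_isClass [Fintype H] :
    Cfsg.IsClassFunction H (Cfsg.indFun (centralizer ({f} : Set H)) D.phi) :=
  indFun_isClassFunction _ _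

theorem ind_norm [Fintype H] [Fintype ↥(centralizer ({f} : Set H))] :
    Cfsg.classInner (Cfsg.indFun (centralizer ({f} : Set H)) D.phi)
      (Cfsg.indFun (centralizer ({f} : Set H)) D.phi) = 3 := by
  classical
  haveI := Fintype.ofFinite ↥Kc
  rw [frobenius_reciprocity _ _ D.ind_isClass, classInner_def, D.cardC,
    D.sum_C _ (fun i => (1 - ζ ^ i) * (2 - ζ ^ (4 * i) - ζ ^ (16 * i))) (fun p => by
      rw [D.phi_el]
      by_cases hp : p.1 = 0
      · rw [hp]; simp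
      · rw [D.ind_el p hp, map_sub, map_sub, ζ_conj, ζ_conj, map_ofNat, ← mul_assoc]
        norm_num)]
  have hK : (K : ℂ) ≠ 0 := Nat.cast_ne_zero.2 D.K_pos.ne'
  push_cast
  field_simp
  have e : ∀ a b : ℕ, ζ ^ (5 * a + b) = ζ ^ b := fun a b => by
    rw [pow_add, pow_mul, ζ_five, one_pow, one_mul]
  rw [show ζ ^ 8 = ζ ^ 3 from e 1 3, show ζ ^ 12 = ζ ^ 2 from e 2 2, show ζ ^ 16 = ζ from (e 3 1).trans (pow_one ζ),
    show ζ ^ 32 = ζ ^ 2 from e 6 2, show ζ ^ 48 = ζ ^ 3 from e 9 3, show ζ ^ 64 = ζ ^ 4 from e 12 4]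
  linear_combination (-3 : ℂ) * ζ_sum + ((4 : ℂ) + ζ + ζ ^ 3) * ζ_five

/-- The decomposition into three irreducible characters. -/
theorem exists_decomposition [Fintype H] :
    ∃ (χ₁ χ₂ : Cfsg.IrrCharacter H) (s₁ s₂ : ℤ), (s₁ = 1 ∨ s₁ = -1) ∧ (s₂ = 1 ∨ s₂ = -1) ∧
      Cfsg.classInner (Cfsg.indFun (centralizer ({f} : Set H)) D.phi) (χ₁ : H → ℂ) = (s₁ : ℂ) ∧
      Cfsg.classInner (Cfsg.indFun (centralizer ({f} : Set H)) D.phi) (χ₂ : H → ℂ) = (s₂ : ℂ) ∧
      ∀ g, Cfsg.indFun (centralizer ({f} : Set H)) D.phi g =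
        1 + (s₁ : ℂ) * (χ₁ : H → ℂ) g + (s₂ : ℂ) * (χ₂ : H → ℂ) g := by
  classical
  haveI := Fintype.ofFinite (Cfsg.IrrCharacter H)
  haveI := Fintype.ofFinite ↥(centralizer ({f} : Set H))
  set Θ := Cfsg.indFun (centralizer ({f} : Set H)) D.phi
  have hgen : Cfsg.IsGeneralizedCharacter H Θ := isGen_indFun _ D.phi_isGen
  have hn : ∀ ψ : Cfsg.IrrCharacter H, ∃ z : ℤ, Cfsg.classInner Θ (ψ : H → ℂ) = (z : ℂ) :=
    fun ψ => classInner_gen_int hgen (isGen_of_isCharacter (irr_isCharacter ψ))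
  choose n hn using hn
  have h1 : n (trivIrr H) = 1 := by
    have := hn (trivIrr H)
    rw [trivIrr_coe, D.ind_inner_one] at this
    exact_mod_cast this.symm
  have hsum : ∑ ψ, n ψ * n ψ = 3 := by
    have := classInner_eq_sum Θ (isGen_isClassFunction hgen)
    simp only [fun ψ : Cfsg.IrrCharacter H => classInner_conj_symm Θ (ψ : H → ℂ), hn, map_intCast] at this
    rw [D.ind_norm] at this
    exact_mod_cast this.symm
  set R := Finset.univ.erase (trivIrr H)
  have hR : ∑ ψ ∈ R, n ψ * n ψ = 2 := by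
    have := Finset.add_sum_erase Finset.univ (fun ψ => n ψ * n ψ) (Finset.mem_univ (trivIrr H))
    rw [hsum, h1] at this
    linarith
  have hsmall : ∀ ψ ∈ R, n ψ = 0 ∨ n ψ = 1 ∨ n ψ = -1 := by
    intro ψ hψ
    have hle := Finset.single_le_sum (f := fun ψ => n ψ * n ψ) (fun _ _ => mul_self_nonneg _) hψ
    simp only [hR] at hle
    have h1' : n ψ < 2 := by nlinarith
    have h2' : -2 < n ψ := by nlinarith
    omega
  have hcard : (R.filter fun ψ => n ψ ≠ 0).card = 2 := by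
    have : ∑ ψ ∈ R, n ψ * n ψ = ((R.filter fun ψ => n ψ ≠ 0).card : ℤ) := by
      rw [Finset.card_eq_sum_ones, Nat.cast_sum, Finset.sum_filter]
      refine Finset.sum_congr rfl fun ψ hψ => ?_
      rcases hsmall ψ hψ with h | h | h <;> simp [h]
    rw [hR] at this
    exact_mod_cast this.symm
  obtain ⟨χ₁, χ₂, hne, hset⟩ := Finset.card_eq_two.1 hcard
  have hm : ∀ χ ∈ ({χ₁, χ₂} : Finset (Cfsg.IrrCharacter H)), χ ∈ R ∧ n χ ≠ 0 := fun χ hχ =>
    Finset.mem_filter.1 (hset ▸ hχ)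
  obtain ⟨hR1, hn1⟩ := hm χ₁ (by simp)
  obtain ⟨hR2, hn2⟩ := hm χ₂ (by simp)
  refine ⟨χ₁, χ₂, n χ₁, n χ₂, (hsmall _ hR1).resolve_left hn1, (hsmall _ hR2).resolve_left hn2,
    hn _, hn _, fun g => ?_⟩
  have hexp := congrFun (classFun_eq_sum (isGen_isClassFunction hgen)) g
  simp only [Finset.sum_apply, Pi.smul_apply, smul_eq_mul, hn] at hexp
  rw [hexp, ← Finset.add_sum_erase _ _ (Finset.mem_univ (trivIrr H)), h1, trivIrr_coe, Int.cast_one, one_mul,
    add_assoc]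
  congr 1
  rw [← Finset.sum_filter_of_ne (p := fun ψ => n ψ ≠ 0) (fun ψ _ hψ hz => hψ (by simp [hz])), hset,
    Finset.sum_pair hne]

theorem ordv : orderOf v = 2 := by
  haveI : Fact (Nat.Prime 2) := ⟨Nat.prime_two⟩
  refine orderOf_eq_prime (by rw [sq, D.sqv]) fun e => ?_
  have h := D.invf
  rw [e, one_mul, inv_one, mul_one, eq_inv_iff_mul_eq_one, ← sq] at h
  have := orderOf_dvd_of_pow_eq_one h
  rw [D.ordf] at this
  omega

/-- The sum over products of two involutions. -/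
theorem pair_count [Fintype H] [DecidableEq H] :
    ∑ x ∈ Finset.univ.filter (fun x : H => orderOf x = 2),
      ∑ y ∈ Finset.univ.filter (fun x : H => orderOf x = 2),
        Cfsg.extendByZero (centralizer ({f} : Set H)) D.phi (x * y) = 25 := by
  set T := Finset.univ.filter (fun x : H => orderOf x = 2)
  have hf4 : f⁻¹ = f ^ 4 := inv_eq_of_mul_eq_one_right (by rw [← pow_succ']; exact D.f_five)
  have hvj : ∀ j : ℕ, v * f ^ j * v⁻¹ = f ^ (4 * j) := fun j => by
    have := D.el_inv_f (⟨j % 5, Nat.mod_lt _ (by norm_num)⟩, 1)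
    simp only [OneMemClass.coe_one, mul_one] at this
    rw [show f ^ j = f ^ (j % 5) by rw [← D.ordf, pow_mod_orderOf], this]
    conv_lhs => rw [← pow_mod_orderOf, D.ordf]
    conv_rhs => rw [← pow_mod_orderOf, D.ordf]
    congr 1
    omega
  have hvi : v⁻¹ = v := inv_eq_of_mul_eq_one_right D.sqv
  have hord : ∀ j : ℕ, orderOf (v * f ^ j) = 2 := by
    intro j
    haveI : Fact (Nat.Prime 2) := ⟨Nat.prime_two⟩
    refine orderOf_eq_prime ?_ fun e => ?_
    · have h := hvj j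
      rw [hvi] at h
      rw [sq, ← mul_assoc, h, ← pow_add, show 4 * j + j = 5 * j by ring, pow_mul, D.f_five, one_pow]
    · have h1 : v = (f ^ j)⁻¹ := eq_inv_of_mul_eq_one_left e
      have h2 : orderOf v ∣ 5 := by
        rw [h1, orderOf_inv]
        exact D.ordf ▸ orderOf_pow_dvd j
      rw [D.ordv] at h2
      omega
  rw [← Finset.sum_product' T T (fun x y => Cfsg.extendByZero (centralizer ({f} : Set H)) D.phi (x * y))]
  let F : Fin 5 × Fin 5 → H × H := fun q => (v * f ^ (q.1 : ℕ), v * f ^ ((q.1 : ℕ) + (q.2 : ℕ)))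
  have hF : Function.Injective F := by
    rintro ⟨a, b⟩ ⟨c, d⟩ e
    simp only [F, Prod.mk.injEq, mul_right_inj] at e
    have h1 := D.inj_pow e.1
    have h2 := D.inj_pow e.2
    unfold Nat.ModEq at h1 h2
    have := a.2; have := b.2; have := c.2; have := d.2
    refine Prod.ext (Fin.ext ?_) (Fin.ext ?_) <;> simp only <;> omega
  have hsub : Finset.univ.image F ⊆ T ×ˢ T := by
    intro z hz
    obtain ⟨⟨a, b⟩, -, rfl⟩ := Finset.mem_image.1 hz
    simp [T, F, hord]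
  rw [← Finset.sum_subset hsub, Finset.sum_image (fun a _ b _ h => hF h)]
  · have hval : ∀ q : Fin 5 × Fin 5, Cfsg.extendByZero (centralizer ({f} : Set H)) D.phi ((F q).1 * (F q).2) =
        1 - ζ ^ (q.2 : ℕ) := by
      intro q
      have e : (F q).1 * (F q).2 = ((D.el (q.2, 1) : ↥(centralizer ({f} : Set H))) : H) := by
        rw [D.el_val]
        simp only [F, OneMemClass.coe_one, mul_one]
        have h := hvj (q.1 : ℕ)
        rw [hvi] at h
        rw [← mul_assoc, h, pow_add, ← mul_assoc, ← pow_add, show 4 * (q.1 : ℕ) + q.1 = 5 * q.1 by ring,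
          pow_mul, D.f_five, one_pow, one_mul]
      rw [e, Cfsg.extendByZero, Subtype.val_injective.extend_apply, D.phi_el]
    simp only [hval]
    rw [Fintype.sum_prod_type]
    simp only [Fin.sum_univ_five]
    simp only [Fin.val_zero, Fin.val_one, Fin.val_two, show ((3 : Fin 5) : ℕ) = 3 from rfl,
      show ((4 : Fin 5) : ℕ) = 4 from rfl]
    linear_combination (-5 : ℂ) * ζ_sum
  · rintro ⟨x, y⟩ hxy hnot
    by_contra hne
    rw [Finset.mem_product] at hxy
    obtain ⟨hx, hy⟩ := hxy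
    simp only [T, Finset.mem_filter, Finset.mem_univ, true_and] at hx hy
    obtain ⟨a, ha⟩ : ∃ a : ↥(centralizer ({f} : Set H)), (a : H) = x * y := by
      by_contra h'
      exact hne (Function.extend_apply' _ _ _ h')
    rw [Cfsg.extendByZero] at hne
    rcases D.phi_eq_zero_or a with h | ⟨i, k, hi, he⟩
    · exact hne (by simp only [← ha, Subtype.val_injective.extend_apply]; exact h)
    have hxi : x⁻¹ = x := inv_eq_of_mul_eq_one_right (by rw [← sq, ← hx, pow_orderOf_eq_one])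
    have hyi : y⁻¹ = y := inv_eq_of_mul_eq_one_right (by rw [← sq, ← hy, pow_orderOf_eq_one])
    have hinv : x⁻¹ * (f ^ (i : ℕ) * (k : H)) * x = f ^ (4 * (i : ℕ)) * (k : H)⁻¹ := by
      rw [← he, ha, inv_mul_cancel_left]
      have h1 : y * x = (x * y)⁻¹ := by rw [mul_inv_rev, hxi, hyi]
      rw [h1, ← ha, he, mul_inv_rev,
        ((D.commKf _ (inv_mem k.2)).pow_right (4 * (i : ℕ))).symm.eq]
      congr 1
      refine inv_eq_of_mul_eq_one_right ?_
      rw [← pow_add, show (i : ℕ) + 4 * i = 5 * i by ring, pow_mul, D.f_five, one_pow]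
    have hz := D.conj_section hi (inv_mem k.2) hinv
    rcases D.normf x⁻¹ (by rwa [inv_inv]) with h | h
    · -- `x` centralises `f`
      rw [inv_inv] at h
      have hc : x ∈ centralizer ({f} : Set H) := by
        rw [mem_centralizer_singleton_iff]
        rw [mul_assoc, inv_mul_eq_iff_eq_mul] at h
        exact h.symm
      have h2 : orderOf (⟨x, hc⟩ : ↥(centralizer ({f} : Set H))) ∣
          Nat.card ↥(centralizer ({f} : Set H)) := orderOf_dvd_natCard _
      rw [orderOf_mk, hx, D.cardC] at h2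
      obtain ⟨r, hr⟩ := D.odd
      omega
    · rw [inv_inv] at h
      obtain ⟨⟨j, l⟩, hjl⟩ := D.el.surjective ⟨v * x, (D.v_mem_iff x).1 h⟩
      have hjl' : f ^ (j : ℕ) * (l : H) = v * x := congrArg Subtype.val hjl
      have hx' : x = v * f ^ (j : ℕ) * l := by
        rw [mul_assoc, hjl', ← mul_assoc, D.sqv, one_mul]
      have hl1 : (l : H) = 1 := by
        have e1 : (v * f ^ (j : ℕ)) * (v * f ^ (j : ℕ)) = 1 := by
          rw [← sq, ← hord (j : ℕ), pow_orderOf_eq_one]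
        have hcomm : Commute (l : H) (v * f ^ (j : ℕ)) :=
          (D.commKv _ l.2).symm.mul_right ((D.commKf _ l.2).pow_right _)
        have e2 : x * x = (l : H) * l := by
          rw [hx', mul_assoc, ← mul_assoc (l : H), hcomm.eq, mul_assoc (v * f ^ (j : ℕ)) (l : H),
            ← mul_assoc (v * f ^ (j : ℕ)), e1, one_mul]
        have e3 : x * x = 1 := by rw [← sq, ← hx, pow_orderOf_eq_one]
        have h2 : orderOf (l : H) ∣ 2 := orderOf_dvd_of_pow_eq_one (by rw [sq, ← e2, e3])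
        have hK : orderOf (l : H) ∣ K := D.cardKc ▸ Subgroup.orderOf_dvd_natCard Kc l.2
        exact orderOf_eq_one_iff.1 (Nat.eq_one_of_dvd_coprimes (Nat.coprime_two_left.2 D.odd) h2 hK)
      rw [hl1, mul_one] at hx'
      have hkk : (k : H) = 1 := by
        have e1 : x⁻¹ * (f ^ (i : ℕ) * (k : H)) * x = f ^ (4 * (i : ℕ)) * (k : H) := by
          rw [hx', mul_inv_rev]
          calc (f ^ (j : ℕ))⁻¹ * v⁻¹ * (f ^ (i : ℕ) * (k : H)) * (v * f ^ (j : ℕ))
              = (f ^ (j : ℕ))⁻¹ * (v * (f ^ (i : ℕ) * (k : H)) * v⁻¹) * f ^ (j : ℕ) := by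
                rw [hvi]; group
            _ = (f ^ (j : ℕ))⁻¹ * (f ^ (4 * (i : ℕ)) * (k : H)) * f ^ (j : ℕ) := by
                rw [D.el_inv_f (i, k)]
            _ = f ^ (4 * (i : ℕ)) * (k : H) := by
                rw [mul_assoc, (((Commute.refl f).pow_pow _ _).mul_left ((D.commKf _ k.2).pow_right _)).eq,
                  inv_mul_cancel_left]
        have e2 := e1.symm.trans hinv
        rw [mul_right_inj, eq_inv_iff_mul_eq_one] at e2
        have h2 : orderOf (k : H) ∣ 2 := orderOf_dvd_of_pow_eq_one (by rw [sq, e2])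
        have hK : orderOf (k : H) ∣ K := D.cardKc ▸ Subgroup.orderOf_dvd_natCard Kc k.2
        exact orderOf_eq_one_iff.1 (Nat.eq_one_of_dvd_coprimes (Nat.coprime_two_left.2 D.odd) h2 hK)
      refine hnot (Finset.mem_image.2 ⟨(j, i), Finset.mem_univ _, ?_⟩)
      simp only [F, Prod.mk.injEq]
      refine ⟨hx'.symm, ?_⟩
      calc v * f ^ ((j : ℕ) + (i : ℕ)) = x * (f ^ (i : ℕ) * (k : H)) := by
            rw [hx', hkk, mul_one, pow_add, mul_assoc]
        _ = x * (x * y) := by rw [← he, ha]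
        _ = y := by rw [← mul_assoc, show x * x = 1 by rw [← sq, ← hx, pow_orderOf_eq_one], one_mul]

/-- The class multiplication sum, evaluated. -/
theorem class_sum [Fintype H] :
    ∑ g : H, Cfsg.indFun (centralizer ({f} : Set H)) D.phi (v * (g * v * g⁻¹)) =
      25 * (Nat.card ↥(centralizer ({v} : Set H)) : ℂ) ^ 2 / (5 * K) := by
  classical
  set C := centralizer ({f} : Set H)
  set c : ℂ := (Nat.card ↥(centralizer ({v} : Set H)) : ℂ)
  set T := Finset.univ.filter (fun x : H => orderOf x = 2)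
  have hmem : ∀ g : H, g * v * g⁻¹ ∈ T := fun g => by
    simp only [T, Finset.mem_filter, Finset.mem_univ, true_and,
      show g * v * g⁻¹ = MulAut.conj g v from rfl, MulEquiv.orderOf_eq, D.ordv]
  have hfib : ∀ F : H → ℂ, ∑ g : H, F (g * v * g⁻¹) = c * ∑ x ∈ T, F x := by
    intro F
    rw [← Finset.sum_fiberwise_of_maps_to (fun g _ => hmem g), Finset.mul_sum]
    refine Finset.sum_congr rfl fun x hx => ?_
    rw [Finset.sum_congr rfl (g := fun _ => F x) (fun g hg => by rw [(Finset.mem_filter.1 hg).2]),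
      Finset.sum_const, nsmul_eq_mul]
    congr 1
    obtain ⟨a₀, ha₀⟩ := isConj_iff.1 (D.oneClass v x D.ordv (Finset.mem_filter.1 hx).2)
    simp only [c]
    norm_cast
    rw [← Fintype.card_subtype, ← Nat.card_eq_fintype_card]
    refine Nat.card_congr
      { toFun := fun a => ⟨a₀⁻¹ * a.1, mem_centralizer_singleton_iff.2 ?_⟩
        invFun := fun k => ⟨a₀ * k.1, ?_⟩
        left_inv := fun a => Subtype.ext (mul_inv_cancel_left a₀ a.1)
        right_inv := fun k => Subtype.ext (inv_mul_cancel_left a₀ k.1) }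
    · calc a₀⁻¹ * a.1 * v = a₀⁻¹ * (a.1 * v * a.1⁻¹) * a.1 := by group
        _ = a₀⁻¹ * (a₀ * v * a₀⁻¹) * a.1 := by rw [a.2, ha₀]
        _ = v * (a₀⁻¹ * a.1) := by group
    · calc a₀ * k.1 * v * (a₀ * k.1)⁻¹ = a₀ * (k.1 * v) * k.1⁻¹ * a₀⁻¹ := by group
        _ = a₀ * (v * k.1) * k.1⁻¹ * a₀⁻¹ := by rw [mem_centralizer_singleton_iff.1 k.2]
        _ = x := by rw [← ha₀]; group
  have hswap : ∀ h : H, ∑ g : H, Cfsg.extendByZero C D.phi (h⁻¹ * (v * (g * v * g⁻¹)) * h) =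
      c * ∑ y ∈ T, Cfsg.extendByZero C D.phi ((h⁻¹ * v * h) * y) := by
    intro h
    rw [← hfib]
    refine Fintype.sum_equiv (Equiv.mulLeft h⁻¹) _ _ fun g => ?_
    simp only [Equiv.coe_mulLeft]
    congr 1
    group
  simp only [Cfsg.indFun, ← Finset.mul_sum]
  rw [Finset.sum_comm, Finset.sum_congr rfl fun h _ => hswap h, ← Finset.mul_sum]
  have houter : ∑ h : H, ∑ y ∈ T, Cfsg.extendByZero C D.phi ((h⁻¹ * v * h) * y) =
      c * ∑ x ∈ T, ∑ y ∈ T, Cfsg.extendByZero C D.phi (x * y) := by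
    rw [← hfib]
    refine Fintype.sum_equiv (Equiv.inv H) _ _ fun h => ?_
    simp only [Equiv.inv_apply, inv_inv]
  rw [houter, D.pair_count, D.cardC]
  push_cast
  ring

/-- The data are contradictory. -/
theorem false : False := by
  classical
  haveI := Fintype.ofFinite H
  haveI := Fintype.ofFinite (Cfsg.IrrCharacter H)
  haveI := Fintype.ofFinite ↥(centralizer ({f} : Set H))
  obtain ⟨χ₁, χ₂, s₁, s₂, hs₁, hs₂, hi₁, hi₂, hΘ⟩ := D.exists_decomposition
  obtain ⟨d₁, hd₁, hd₁0, hd₁d⟩ := irr_degree_dvd_card χ₁.2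
  obtain ⟨d₂, hd₂, hd₂0, hd₂d⟩ := irr_degree_dvd_card χ₂.2
  obtain ⟨a₁, ha₁⟩ := exists_int_at_involution (irr_isCharacter χ₁) D.ordv
  obtain ⟨a₂, ha₂⟩ := exists_int_at_involution (irr_isCharacter χ₂) D.ordv
  -- values at `1` and at `v`
  have z1 : Cfsg.indFun (centralizer ({f} : Set H)) D.phi 1 = 0 :=
    D.ind_zero (fun h => by rw [orderOf_one] at h; omega)
  have zv : Cfsg.indFun (centralizer ({f} : Set H)) D.phi v = 0 :=
    D.ind_zero (fun h => by rw [D.ordv] at h; omega)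
  rw [hΘ, hd₁, hd₂] at z1
  rw [hΘ, ha₁, ha₂] at zv
  set e : ℤ := s₁ * d₁ with he
  set a : ℤ := s₁ * a₁ with ha
  have he2 : s₂ * (d₂ : ℤ) = -1 - e := by
    have : ((1 + s₁ * d₁ + s₂ * d₂ : ℤ) : ℂ) = ((0 : ℤ) : ℂ) := by push_cast; linear_combination z1
    have := Int.cast_injective this
    omega
  have ha2 : s₂ * a₂ = -1 - a := by
    have : ((1 + s₁ * a₁ + s₂ * a₂ : ℤ) : ℂ) = ((0 : ℤ) : ℂ) := by push_cast; linear_combination zv
    have := Int.cast_injective this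
    omega
  have hsq₁ : s₁ * s₁ = 1 := by rcases hs₁ with h | h <;> rw [h] <;> norm_num
  have hsq₂ : s₂ * s₂ = 1 := by rcases hs₂ with h | h <;> rw [h] <;> norm_num
  have hs₁0 : s₁ ≠ 0 := fun h => by rw [h] at hsq₁; norm_num at hsq₁
  have hs₂0 : s₂ ≠ 0 := fun h => by rw [h] at hsq₂; norm_num at hsq₂
  have he0 : e ≠ 0 := mul_ne_zero hs₁0 (by exact_mod_cast hd₁0.ne')
  have he10 : e + 1 ≠ 0 := by
    have : s₂ * (d₂ : ℤ) ≠ 0 := mul_ne_zero hs₂0 (by exact_mod_cast hd₂0.ne')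
    omega
  -- the class multiplication equation
  have hKpos : (0 : ℤ) < K := by exact_mod_cast D.K_pos
  have hKC : (K : ℂ) ≠ 0 := Nat.cast_ne_zero.2 D.K_pos.ne'
  have hN : (Nat.card H : ℂ) = 5 * (11 * m + 1) * m * K := by rw [D.card]; push_cast; ring
  have hc3 : (Nat.card ↥(centralizer ({v} : Set H)) : ℂ) = (11 * m + 1) * K / 3 := by
    rw [eq_div_iff (by norm_num), mul_comm]
    exact_mod_cast D.cardCv
  have hsum := D.class_sum
  rw [Finset.sum_congr rfl fun g _ => hΘ (v * (g * v * g⁻¹))] at hsum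
  simp only [Finset.sum_add_distrib, ← Finset.mul_sum, sum_mul_conjugates χ₁.2, sum_mul_conjugates χ₂.2,
    Finset.sum_const, Finset.card_univ, ← Nat.card_eq_fintype_card, nsmul_eq_mul, mul_one, hd₁, hd₂, ha₁,
    ha₂] at hsum
  have hdC₁ : (d₁ : ℂ) ≠ 0 := Nat.cast_ne_zero.2 hd₁0.ne'
  have hdC₂ : (d₂ : ℂ) ≠ 0 := Nat.cast_ne_zero.2 hd₂0.ne'
  have hmC : (m : ℂ) ≠ 0 := Nat.cast_ne_zero.2 (by have := D.one_lt; omega)
  have hnC : (11 * (m : ℂ) + 1) ≠ 0 := by
    have : ((11 * m + 1 : ℕ) : ℂ) ≠ 0 := Nat.cast_ne_zero.2 (by omega)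
    push_cast at this
    exact this
  have heC : (e : ℂ) ≠ 0 := Int.cast_ne_zero.2 he0
  have he1C : (e : ℂ) + 1 ≠ 0 := by exact_mod_cast he10
  have t₁ : (s₁ : ℂ) * ((Nat.card H : ℂ) * a₁ * a₁ / d₁) = (Nat.card H : ℂ) * ((a : ℂ) ^ 2 / e) := by
    rw [ha, he]; push_cast
    have : (s₁ : ℂ) ≠ 0 := Int.cast_ne_zero.2 hs₁0
    field_simp
  have t₂ : (s₂ : ℂ) * ((Nat.card H : ℂ) * a₂ * a₂ / d₂) =
      (Nat.card H : ℂ) * ((1 + a : ℂ) ^ 2 / (-1 - e)) := by
    have e1 : ((-1 - e : ℤ) : ℂ) = (s₂ : ℂ) * d₂ := by rw [← he2]; push_cast; ring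
    have e2 : ((-1 - a : ℤ) : ℂ) = (s₂ : ℂ) * a₂ := by rw [← ha2]; push_cast; ring
    push_cast at e1 e2
    rw [e1, show (1 + (a : ℂ)) ^ 2 = (-1 - (a : ℂ)) ^ 2 by ring, e2]
    have : (s₂ : ℂ) ≠ 0 := Int.cast_ne_zero.2 hs₂0
    field_simp
  rw [t₁, t₂, hN, hc3] at hsum
  have hmain : ((9 * m * (e - a) ^ 2 : ℤ) : ℂ) = (((11 * m + 1) * (e * (e + 1)) : ℤ) : ℂ) := by
    have hne : (-1 - (e : ℂ)) ≠ 0 := fun h => he1C (by linear_combination -h)
    field_simp at hsum
    push_cast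
    refine mul_left_cancel₀ (show (25 : ℂ) ≠ 0 by norm_num) ?_
    linear_combination -hsum
  have h9 : 9 * (m : ℤ) * (e - a) ^ 2 = (11 * m + 1) * (e * (e + 1)) := Int.cast_injective hmain
  -- arithmetic facts
  obtain ⟨l, hl⟩ := D.dvd
  have hm1 := D.one_lt
  have hm61 : 61 ≤ m := by
    have h5 : 5 ∣ m - 1 := ⟨K * l, by rw [hl, mul_assoc]⟩
    obtain ⟨w, hw⟩ := D.twelve
    omega
  have hm5 : ¬ 5 ∣ m := by
    have : 5 ∣ m - 1 := ⟨K * l, by rw [hl, mul_assoc]⟩
    omega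
  have hn5 : ¬ 5 ∣ 11 * m + 1 := by
    have : 5 ∣ m - 1 := ⟨K * l, by rw [hl, mul_assoc]⟩
    omega
  have hfac5 : (Nat.card H).factorization 5 = 1 := by
    have hnd : ¬ 5 ∣ (11 * m + 1) * m * K := by
      intro hd
      rcases (Nat.Prime.dvd_mul Nat.prime_five).1 hd with h | h
      · rcases (Nat.Prime.dvd_mul Nat.prime_five).1 h with h | h
        exacts [hn5 h, hm5 h]
      · exact D.not_five h
    have := D.K_pos
    rw [D.card, show 5 * (11 * m + 1) * m * K = 5 * ((11 * m + 1) * m * K) by ring,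
      Nat.factorization_mul (by norm_num) (by positivity), Finsupp.add_apply,
      Nat.Prime.factorization_self Nat.prime_five, Nat.factorization_eq_zero_of_not_dvd hnd]
  have hdeg : ∀ (χ : Cfsg.IrrCharacter H) (d : ℕ), (χ : H → ℂ) 1 = d → Cfsg.charDegree (χ : H → ℂ) = d :=
    fun χ d hd => Nat.cast_injective (R := ℂ) ((Blocks.charDegree_cast χ).trans hd)
  have h5χ : ∀ (χ : Cfsg.IrrCharacter H) (s : ℤ) (d : ℕ), s ≠ 0 → (χ : H → ℂ) 1 = d →
      Cfsg.classInner (Cfsg.indFun (centralizer ({f} : Set H)) D.phi) (χ : H → ℂ) = (s : ℂ) → ¬ 5 ∣ d := by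
    intro χ s d hs hd hi hdvd
    have hz : Cfsg.classInner (Cfsg.indFun (centralizer ({f} : Set H)) D.phi) (χ : H → ℂ) = 0 := by
      rw [classInner_def, Finset.sum_eq_zero, mul_zero]
      intro g _
      by_cases h5 : 5 ∣ orderOf g
      · rw [BlockCharsA.DefectZeroVanish.eq_zero_of_singular Nat.prime_five χ
          (by rw [hfac5, pow_one, hdeg χ d hd]; exact hdvd) h5, map_zero, mul_zero]
      · rw [D.ind_zero (fun h => h5 h.1), zero_mul]
    rw [hi] at hz
    exact hs (by exact_mod_cast hz)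
  have h5₁ := h5χ χ₁ s₁ d₁ hs₁0 hd₁ hi₁
  have h5₂ := h5χ χ₂ s₂ d₂ hs₂0 hd₂ hi₂
  have habs₁ : e.natAbs = d₁ := by
    rw [he, Int.natAbs_mul]
    rcases hs₁ with h | h <;> rw [h] <;> simp
  have habs₂ : (e + 1).natAbs = d₂ := by
    rw [show e + 1 = -(s₂ * (d₂ : ℤ)) by omega, Int.natAbs_neg, Int.natAbs_mul]
    rcases hs₂ with h | h <;> rw [h] <;> simp
  have hnm : Nat.Coprime (11 * m + 1) m := by
    rw [Nat.coprime_comm, add_comm, Nat.coprime_add_mul_right_right]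
    exact Nat.coprime_one_right m
  have hKm : Nat.Coprime K m := by
    have hd : Nat.gcd K m ∣ 1 := by
      have hK' : Nat.gcd K m ∣ m - 1 := (Nat.gcd_dvd_left K m).trans ⟨5 * l, by rw [hl]; ring⟩
      have := Nat.dvd_sub (Nat.gcd_dvd_right K m) hK'
      rwa [show m - (m - 1) = 1 by omega] at this
    exact Nat.eq_one_of_dvd_one hd
  have hprod : m ∣ e.natAbs * (e + 1).natAbs := by
    rw [← Int.natAbs_mul]
    refine hnm.symm.dvd_of_dvd_mul_left ?_
    have : (m : ℤ) ∣ (11 * m + 1) * (e * (e + 1)) := ⟨9 * (e - a) ^ 2, by linear_combination -h9⟩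
    have := Int.natAbs_dvd_natAbs.2 this
    rw [Int.natAbs_mul, show (11 * (m : ℤ) + 1) = ((11 * m + 1 : ℕ) : ℤ) by push_cast; ring] at this
    simpa only [Int.natAbs_natCast] using this
  rw [habs₁, habs₂] at hprod
  have hm' : m ∣ d₁ ∨ m ∣ d₂ := by
    by_contra hcon
    push Not at hcon
    have hex : ∀ d, ¬ m ∣ d → ∃ q : ℕ, q.Prime ∧ q ∣ m ∧ ¬ q ^ m.factorization q ∣ d := by
      intro d hd
      by_contra hcon'
      push Not at hcon'
      refine hd ((Nat.dvd_iff_prime_pow_dvd_dvd d m).2 fun q k hq hqk => ?_)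
      rcases Nat.eq_zero_or_pos k with rfl | hk
      · simp
      exact (Nat.pow_dvd_pow q ((hq.pow_dvd_iff_le_factorization (by omega)).1 hqk)).trans
        (hcon' q hq ((dvd_pow_self q hk.ne').trans hqk))
    have hcop : Nat.Coprime d₁ d₂ := by
      rw [← habs₁, ← habs₂, ← Int.isCoprime_iff_nat_coprime]
      exact ⟨-1, 1, by ring⟩
    have hsplit : ∀ q : ℕ, q.Prime → q ^ m.factorization q ∣ d₁ ∨ q ^ m.factorization q ∣ d₂ := by
      intro q hq
      have hqd : q ^ m.factorization q ∣ d₁ * d₂ := (Nat.ordProj_dvd m q).trans hprod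
      by_cases hq1 : q ∣ d₁
      · left
        exact ((hq.coprime_iff_not_dvd.2 fun h =>
          hq.not_dvd_one (hcop ▸ Nat.dvd_gcd hq1 h)).pow_left _).dvd_of_dvd_mul_right hqd
      · right
        exact ((hq.coprime_iff_not_dvd.2 hq1).pow_left _).dvd_of_dvd_mul_left hqd
    obtain ⟨q, hq, hqm, hq1⟩ := hex d₁ hcon.1
    obtain ⟨r, hr, hrm, hr2⟩ := hex d₂ hcon.2
    have hq2 := (hsplit q hq).resolve_left hq1
    have hr1 := (hsplit r hr).resolve_right hr2
    have hqr : q ≠ r := fun h => hq1 (h ▸ hr1)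
    obtain ⟨x, hx⟩ := D.mixed q r hq hr hqm hrm hqr
    have hfull : ∀ p : ℕ, p.Prime → p ∣ m → (Nat.card H).factorization p = m.factorization p := by
      intro p hp hpm
      have hpn : ¬ p ∣ 5 * (11 * m + 1) * K := by
        intro hd
        rcases hp.dvd_mul.1 hd with h | h
        · rcases hp.dvd_mul.1 h with h | h
          · exact hm5 (((Nat.prime_dvd_prime_iff_eq hp Nat.prime_five).1 h) ▸ hpm)
          · exact hp.not_dvd_one (hnm ▸ Nat.dvd_gcd h hpm)
        · exact hp.not_dvd_one (hKm ▸ Nat.dvd_gcd h hpm)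
      have := D.K_pos
      rw [D.card, show 5 * (11 * m + 1) * m * K = 5 * (11 * m + 1) * K * m by ring,
        Nat.factorization_mul (by positivity) (by omega), Finsupp.add_apply,
        Nat.factorization_eq_zero_of_not_dvd hpn, zero_add]
    have hx₁ : (χ₁ : H → ℂ) x = 0 := BlockCharsA.DefectZeroVanish.eq_zero_of_singular hr χ₁
      (by rw [hfull r hr hrm, hdeg χ₁ d₁ hd₁]; exact hr1) ((dvd_mul_left r q).trans hx)
    have hx₂ : (χ₂ : H → ℂ) x = 0 := BlockCharsA.DefectZeroVanish.eq_zero_of_singular hq χ₂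
      (by rw [hfull q hq hqm, hdeg χ₂ d₂ hd₂]; exact hq2) ((dvd_mul_right q r).trans hx)
    have hzx : Cfsg.indFun (centralizer ({f} : Set H)) D.phi x = 0 := D.ind_zero fun h => by
      have hq5 : q ∣ 5 * K := ((dvd_mul_right q r).trans hx).trans h.2
      rcases hq.dvd_mul.1 hq5 with h' | h'
      · exact hm5 (((Nat.prime_dvd_prime_iff_eq hq Nat.prime_five).1 h') ▸ hqm)
      · exact hq.not_dvd_one (hKm ▸ Nat.dvd_gcd h' hqm)
    rw [hΘ, hx₁, hx₂] at hzx
    simp at hzx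
  have hreduce : ∀ d : ℕ, d ∣ Nat.card H → ¬ 5 ∣ d → Nat.Coprime d m → d ∣ (11 * m + 1) * K := by
    intro d hd h5 hco
    rw [D.card, show 5 * (11 * m + 1) * m * K = 5 * m * ((11 * m + 1) * K) by ring] at hd
    exact (Nat.Coprime.mul_right ((Nat.prime_five.coprime_iff_not_dvd.2 h5).symm) hco).dvd_of_dvd_mul_left hd
  have hcop' : ∀ x y : ℕ, m ∣ x → Nat.Coprime x y → Nat.Coprime y m := fun x y hx hxy =>
    (hxy.coprime_dvd_left hx).symm
  have hcop : Nat.Coprime d₁ d₂ := by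
    rw [← habs₁, ← habs₂, ← Int.isCoprime_iff_nat_coprime]
    exact ⟨-1, 1, by ring⟩
  -- the bound on the values at the involution
  have hbound : ∀ (χ : Cfsg.IrrCharacter H) (z : ℤ), (χ : H → ℂ) v = z →
      3 * z ^ 2 ≤ (((11 * m + 1) * K : ℕ) : ℤ) := by
    intro χ z hz
    have h2 := second_orthogonality (G := H) v v
    rw [if_pos (IsConj.refl v)] at h2
    have hint : ∀ ψ : Cfsg.IrrCharacter H, ∃ w : ℤ, (ψ : H → ℂ) v = w :=
      fun ψ => exists_int_at_involution (irr_isCharacter ψ) D.ordv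
    choose w hw using hint
    have h3 : ((∑ ψ, w ψ * w ψ : ℤ) : ℂ) = ((Nat.card ↥(centralizer ({v} : Set H)) : ℤ) : ℂ) := by
      rw [Int.cast_natCast, ← h2]
      push_cast
      exact Finset.sum_congr rfl fun ψ _ => by rw [hw ψ, map_intCast]
    have h4 := Int.cast_injective h3
    have h5 := Finset.single_le_sum (f := fun ψ => w ψ * w ψ) (fun _ _ => mul_self_nonneg _)
      (Finset.mem_univ χ)
    have hwz : w χ = z := by
      have := (hw χ).symm.trans hz
      exact_mod_cast this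
    simp only [h4, hwz] at h5
    rw [← D.cardCv]
    push_cast
    nlinarith
  refine no_solution (m := (m : ℤ)) (n := 11 * (m : ℤ) + 1) (K := (K : ℤ)) (l := (l : ℤ)) rfl
    (by exact_mod_cast hm61) hKpos ?_ h9 he0 he10 ?_ ?_ ?_ ?_ ?_ ?_ ?_
  · have : ((m - 1 : ℕ) : ℤ) = ((5 * K * l : ℕ) : ℤ) := congrArg Nat.cast hl
    rw [Nat.cast_sub (by omega)] at this
    push_cast at this
    linear_combination this
  · intro h
    exact h5₁ (habs₁ ▸ Int.natAbs_dvd_natAbs.2 h)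
  · intro h
    exact h5₂ (habs₂ ▸ Int.natAbs_dvd_natAbs.2 h)
  · rcases hm' with h | h
    · exact Or.inl (Int.natCast_dvd.2 (habs₁.symm ▸ h))
    · exact Or.inr (Int.natCast_dvd.2 (habs₂.symm ▸ h))
  · intro h
    have hmd : m ∣ d₁ := habs₁ ▸ Int.natCast_dvd.1 h
    have hd' := hreduce d₂ hd₂d h5₂ (hcop' d₁ d₂ hmd hcop)
    rw [← Int.natAbs_dvd, habs₂]
    exact_mod_cast hd'
  · intro h
    have hmd : m ∣ d₂ := habs₂ ▸ Int.natCast_dvd.1 h
    have hd' := hreduce d₁ hd₁d h5₁ (hcop' d₂ d₁ hmd hcop.symm)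
    rw [← Int.natAbs_dvd, habs₁]
    exact_mod_cast hd'
  · have := hbound χ₁ a₁ ha₁
    push_cast at this
    rw [ha, mul_pow, show s₁ ^ 2 = 1 by rw [sq, hsq₁], one_mul]
    exact this
  · have := hbound χ₂ a₂ ha₂
    push_cast at this
    rw [show (1 + a) ^ 2 = (s₂ * a₂) ^ 2 by rw [ha2]; ring, mul_pow, show s₂ ^ 2 = 1 by rw [sq, hsq₂], one_mul]
    exact this

end CharData

end Cfsg.Agent.ElevenPairs.JCase
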