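import Cfsg.Agent.Lib.ElevenPairs.JModel
import Cfsg.Agent.Lib.ElevenPairs.LModel

/-!
# Pairs isomorphic to the first Janko group inside the minimal situation
-/

set_option autoImplicit false
set_option linter.unusedSectionVars false
set_option linter.style.haveILetI false

namespace Cfsg.Agent.ElevenPairs.JCase

open Subgroup

universe u

theorem isL_congr {X Y : Type u} [Group X] [Group Y] (e : X ≃* Y) (h : IsL X) : IsL Y :=
  ⟨e.symm.trans h.some⟩

theorem isJ_congr {X Y : Type u} [Group X] [Group Y] (e : X ≃* Y) (h : IsJ X) : IsJ Y := by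
  obtain ⟨i⟩ := h
  exact ⟨e.symm.trans i⟩

variable {G : Type u} [Group G] [Finite G] {P : Subgroup G}

theorem mem_normalizer_iff_map {Q : Subgroup G} {g : G} :
    g ∈ normalizer (Q : Set G) ↔ Q.map (MulAut.conj g).toMonoidHom = Q :=
  ⟨fun h => map_conj_eq_self h, fun h => mem_normalizer_of_map h⟩

theorem member_card (h : Setting P) {Q : Subgroup G} (hQ : Member P Q) : Nat.card Q = 11 := by
  obtain ⟨a, rfl⟩ := hQ
  rw [Subgroup.card_map_of_injective (MulEquiv.injective _), h.card]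

/-- Any two members form a pair. -/
theorem pair_any (h : Setting P) {Q R : Subgroup G} (hQ : Member P Q) (hR : Member P R) (hne : Q ≠ R) :
    IsL ↥(Q ⊔ R) ∨ IsJ ↥(Q ⊔ R) := by
  obtain ⟨a, ha⟩ := hQ
  set R' := R.map (MulAut.conj a⁻¹).toMonoidHom with hR'
  have hback : R'.map (MulAut.conj a).toMonoidHom = R := by
    rw [hR', ← map_conj_mul, mul_inv_cancel, map_conj_one]
  have hne' : R' ≠ P := fun e => hne (by rw [← ha, ← e, hback])
  have hsup : (P ⊔ R').map (MulAut.conj a).toMonoidHom = Q ⊔ R := by rw [Subgroup.map_sup, ha, hback]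
  let e : ↥(P ⊔ R') ≃* ↥(Q ⊔ R) :=
    ((MulAut.conj a).subgroupMap (P ⊔ R')).trans (MulEquiv.subgroupCongr hsup)
  exact (h.pair R' (hR.conj _) hne').imp (isL_congr e) (isJ_congr e)

theorem pair_ne_top (h : Core P) {Q R : Subgroup G} (hQ : Member P Q) (hR : Member P R) : Q ⊔ R ≠ ⊤ := by
  intro htop
  obtain ⟨a, ha⟩ := hQ
  refine h.proper _ (hR.conj a⁻¹) ?_
  rw [← map_top_of_surjective (MulAut.conj a⁻¹).toMonoidHom (MulEquiv.surjective _), ← htop, Subgroup.map_sup,
    ← ha, ← map_conj_mul, inv_mul_cancel, map_conj_one]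

theorem center_eq_bot (h : Core P) : center G = ⊥ := by
  haveI := h.simple
  refine (Subgroup.Normal.eq_bot_or_eq_top (inferInstance : (center G).Normal)).resolve_right fun e => ?_
  refine h.not_normal ⟨fun n hn g => ?_⟩
  have hg : g * n = n * g := (mem_center_iff.1 (e ▸ mem_top n : n ∈ center G) g)
  rwa [hg, mul_inv_cancel_right]

/-- Conjugation by an element normalising `Y`, as an automorphism of `Y`. -/
noncomputable def subAut {Y : Subgroup G} {g : G} (hg : g ∈ normalizer (Y : Set G)) : MulAut ↥Y :=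
  ((MulAut.conj g).subgroupMap Y).trans (MulEquiv.subgroupCongr (map_conj_eq_self hg))

@[simp]
theorem subAut_val {Y : Subgroup G} {g : G} (hg : g ∈ normalizer (Y : Set G)) (x : ↥Y) :
    ((subAut hg x : ↥Y) : G) = g * x * g⁻¹ := rfl

theorem subgroupOf_map_subAut {Y Q : Subgroup G} {g : G} (hg : g ∈ normalizer (Y : Set G)) (hQY : Q ≤ Y)
    (hgQ : g ∈ normalizer (Q : Set G)) :
    (Q.subgroupOf Y).map (subAut hg).toMonoidHom = Q.subgroupOf Y := by
  refine Subgroup.eq_of_le_of_card_ge ?_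
    (le_of_eq (Subgroup.card_map_of_injective (subAut hg).injective).symm)
  rintro _ ⟨x, hx, rfl⟩
  exact (mem_normalizer_iff.1 hgQ _).1 hx

theorem card_subgroupOf {Y Q : Subgroup G} (hQY : Q ≤ Y) : Nat.card (Q.subgroupOf Y) = Nat.card Q :=
  Nat.card_congr (subgroupOfEquivOfLe hQY).toEquiv

theorem subgroupOf_ne {Y Q R : Subgroup G} (hQ : Q ≤ Y) (hR : R ≤ Y) (hne : Q ≠ R) :
    Q.subgroupOf Y ≠ R.subgroupOf Y := fun e => hne (by
  rw [← map_subgroupOf_eq_of_le hQ, e, map_subgroupOf_eq_of_le hR])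

theorem mem_normalizer_sup {Q R : Subgroup G} {g : G} (h1 : g ∈ normalizer (Q : Set G))
    (h2 : g ∈ normalizer (R : Set G)) : g ∈ normalizer ((Q ⊔ R : Subgroup G) : Set G) :=
  mem_normalizer_iff_map.2 (by rw [Subgroup.map_sup, map_conj_eq_self h1, map_conj_eq_self h2])

/-- An element centralising one member and normalising another centralises the latter. -/
theorem pair_lemma (h : Setting P) {Q R : Subgroup G} (hQ : Member P Q) (hR : Member P R) {g : G}
    (hgQ : g ∈ centralizer (Q : Set G)) (hgR : g ∈ normalizer (R : Set G)) :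
    g ∈ centralizer (R : Set G) := by
  rcases eq_or_ne Q R with rfl | hne
  · exact hgQ
  have hg := mem_normalizer_sup (centralizer_le_normalizer _ hgQ) hgR
  have hid : subAut hg = 1 := by
    have hfix : ∀ x ∈ Q.subgroupOf (Q ⊔ R), subAut hg x = x := fun x hx => Subtype.ext (by
      show g * (x : G) * g⁻¹ = (x : G)
      rw [← mem_centralizer_iff.1 hgQ (x : G) hx, mul_inv_cancel_right])
    have hmap := subgroupOf_map_subAut hg (le_sup_right : R ≤ Q ⊔ R) hgR
    have cQ : Nat.card (Q.subgroupOf (Q ⊔ R)) = 11 := by rw [card_subgroupOf le_sup_left, member_card h hQ]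
    have cR : Nat.card (R.subgroupOf (Q ⊔ R)) = 11 := by rw [card_subgroupOf le_sup_right, member_card h hR]
    rcases pair_any h hQ hR hne with hp | hp
    · exact hp.aut_eq_one _ _ _ cQ cR (subgroupOf_ne le_sup_left le_sup_right hne) hfix hmap
    · exact hp.aut_eq_one _ _ _ cQ cR (subgroupOf_ne le_sup_left le_sup_right hne) hfix hmap
  rw [mem_centralizer_iff]
  intro r hr
  have := congrArg (fun a : MulAut ↥(Q ⊔ R) => ((a ⟨r, mem_sup_right hr⟩ : ↥(Q ⊔ R)) : G)) hid
  simp only [subAut_val, MulAut.one_apply] at this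
  exact (mul_inv_eq_iff_eq_mul.1 this).symm

/-- A pair isomorphic to the first Janko group. -/
structure JPair (P Y : Subgroup G) : Prop where
  isJ : IsJ ↥Y
  gen : ∃ Q R : Subgroup G, Member P Q ∧ Member P R ∧ Q ≠ R ∧ Q ⊔ R = Y

namespace JPair

variable {Y : Subgroup G}

theorem card (hY : JPair P Y) : Nat.card Y = 175560 := hY.isJ.card

theorem ne_top (hY : JPair P Y) (h : Core P) : Y ≠ ⊤ := by
  obtain ⟨Q, R, hQ, hR, -, rfl⟩ := hY.gen
  exact pair_ne_top h hQ hR

theorem conj (hY : JPair P Y) (g : G) : JPair P (Y.map (MulAut.conj g).toMonoidHom) := by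
  obtain ⟨Q, R, hQ, hR, hne, hsup⟩ := hY.gen
  exact ⟨isJ_congr ((MulAut.conj g).subgroupMap Y) hY.isJ, _, _, hQ.conj g, hR.conj g,
    fun e => hne (Subgroup.map_injective (MulEquiv.injective _) e), by rw [← Subgroup.map_sup, hsup]⟩

/-- Every subgroup of order eleven of such a pair is a member. -/
theorem member (hY : JPair P Y) (h : Setting P) {A : Subgroup G} (hA : A ≤ Y) (hc : Nat.card A = 11) :
    Member P A := by
  obtain ⟨Q, R, hQ, -, -, hsup⟩ := hY.gen
  have hQY : Q ≤ Y := hsup ▸ le_sup_left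
  haveI : Fact (Nat.Prime 11) := ⟨by norm_num⟩
  obtain ⟨S, hS⟩ := hY.isJ.exists_sylow (Q := Q.subgroupOf Y) (by rw [card_subgroupOf hQY, member_card h hQ])
  obtain ⟨S', hS'⟩ := hY.isJ.exists_sylow (Q := A.subgroupOf Y) (by rw [card_subgroupOf hA, hc])
  obtain ⟨y, hy⟩ := MulAction.exists_smul_eq ↥Y S S'
  have e1 : (Q.subgroupOf Y).map (MulAut.conj y).toMonoidHom = A.subgroupOf Y := by rw [← hS, ← hS', ← hy]; rfl
  have e2 : Q.map (MulAut.conj (y : G)).toMonoidHom = A := by
    rw [← map_subgroupOf_eq_of_le hA, ← e1, Subgroup.map_map]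
    conv_lhs => rw [← map_subgroupOf_eq_of_le hQY, Subgroup.map_map]
    congr 1
  exact e2 ▸ hQ.conj _

/-- A set of members in a proper subgroup containing generators of such a pair generates it. -/
theorem sup_eq (hY : JPair P Y) (h : Core P) (S : Set (Subgroup G)) (hS : ∀ Q ∈ S, Member P Q)
    (htop : sSup S ≠ ⊤) {Q R : Subgroup G} (hQ : Q ∈ S) (hR : R ∈ S) (hne : Q ≠ R) (hsup : Q ⊔ R = Y) :
    sSup S = Y := by
  obtain ⟨R', hR', he⟩ := h.sub S hS htop Q hQ R hR hne
  have hle : Y ≤ sSup S := hsup ▸ sup_le (le_sSup hQ) (le_sSup hR)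
  have hcard : Nat.card ↥(sSup S) ≤ 175560 := by
    rcases eq_or_ne Q R' with rfl | hne'
    · rw [he, sup_idem, member_card h.toSetting hR']; norm_num
    · rcases pair_any h.toSetting (hS Q hQ) hR' hne' with hp | hp
      · rw [he, hp.card]; norm_num
      · rw [he, hp.card]
  exact (Subgroup.eq_of_le_of_card_ge hle (by rw [hY.card]; exact hcard)).symm

/-- A member centralised together with generators of such a pair lies in it. -/
theorem le_of_centralized (hY : JPair P Y) (h : Core P) {k : G} (hk : k ≠ 1)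
    (hkY : k ∈ centralizer (Y : Set G)) {S : Subgroup G} (hS : Member P S)
    (hkS : k ∈ centralizer (S : Set G)) : S ≤ Y := by
  obtain ⟨Q, R, hQ, hR, hne, hsup⟩ := hY.gen
  set T : Set (Subgroup G) := {A | Member P A ∧ k ∈ centralizer (A : Set G)}
  have hle : sSup T ≤ centralizer ({k} : Set G) := sSup_le fun A hA x hx =>
    mem_centralizer_singleton_iff.2 (mem_centralizer_iff.1 hA.2 x hx)
  have htop : sSup T ≠ ⊤ := fun e => hk (by
    have : k ∈ center G := mem_center_iff.2 fun x =>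
      mem_centralizer_singleton_iff.1 ((e ▸ hle : (⊤ : Subgroup G) ≤ _) (mem_top x))
    rwa [center_eq_bot h, mem_bot] at this)
  have := hY.sup_eq h T (fun A hA => hA.1) htop (Q := Q) (R := R)
    ⟨hQ, centralizer_le (fun _ hx => hsup ▸ mem_sup_left hx) hkY⟩
    ⟨hR, centralizer_le (fun _ hx => hsup ▸ mem_sup_right hx) hkY⟩ hne hsup
  exact this ▸ le_sSup ⟨hS, hkS⟩

theorem eq_one_of_centralizes (hY : JPair P Y) {y : G} (hy : y ∈ Y) (hc : y ∈ centralizer (Y : Set G)) :
    y = 1 := by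
  haveI := hY.isJ.simple
  have hcen : (⟨y, hy⟩ : ↥Y) ∈ center ↥Y :=
    mem_center_iff.2 fun z => Subtype.ext (mem_centralizer_iff.1 hc z z.2)
  rcases Subgroup.Normal.eq_bot_or_eq_top (inferInstance : (center ↥Y).Normal) with e | e
  · rw [e, mem_bot] at hcen
    exact congrArg Subtype.val hcen
  · exfalso
    haveI : Fact (Nat.Prime 11) := ⟨by norm_num⟩
    obtain ⟨x, hx⟩ := exists_prime_orderOf_dvd_card' (G := ↥Y) 11 (by rw [hY.card]; norm_num)
    have hQ : Nat.card (zpowers x) = 11 := by rw [Nat.card_zpowers, hx]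
    obtain ⟨z, hz⟩ := exists_prime_orderOf_dvd_card' (G := ↥Y) 7 (hp := ⟨by norm_num⟩) (by rw [hY.card]; norm_num)
    have hzx := hY.isJ.commute_mem hQ (mem_zpowers x) (fun e1 => by rw [e1, orderOf_one] at hx; omega)
      (g := z) (mem_center_iff.1 (e ▸ mem_top x : x ∈ center ↥Y) z)
    have := hQ ▸ orderOf_dvd_natCard (zpowers x) hzx
    rw [hz] at this
    omega

/-- The normaliser is the product with the centraliser. -/
theorem decompose (hY : JPair P Y) {g : G} (hg : g ∈ normalizer (Y : Set G)) :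
    ∃ y ∈ Y, y⁻¹ * g ∈ centralizer (Y : Set G) := by
  obtain ⟨y, hy⟩ := hY.isJ.aut_inner (subAut hg)
  refine ⟨y, y.2, mem_centralizer_iff.2 fun x hx => ?_⟩
  have := congrArg (fun a : MulAut ↥Y => ((a ⟨x, hx⟩ : ↥Y) : G)) hy
  simp only [subAut_val, MulAut.conj_apply, Subgroup.coe_mul, Subgroup.coe_inv] at this
  calc x * ((y : G)⁻¹ * g) = (y : G)⁻¹ * (y * x * (y : G)⁻¹) * g := by group
    _ = (y : G)⁻¹ * (g * x * g⁻¹) * g := by rw [this]
    _ = (y : G)⁻¹ * g * x := by group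

theorem mem_normalizer_subgroupOf {A : Subgroup G} (hA : A ≤ Y) {y : G} (hy : y ∈ Y) :
    (⟨y, hy⟩ : ↥Y) ∈ normalizer ((A.subgroupOf Y : Subgroup ↥Y) : Set ↥Y) ↔ y ∈ normalizer (A : Set G) := by
  rw [mem_normalizer_iff, mem_normalizer_iff]
  constructor
  · intro H x
    constructor
    · intro hx; exact (H ⟨x, hA hx⟩).1 hx
    · intro hx
      have hxY : x ∈ Y := by
        have := mul_mem (mul_mem (inv_mem hy) (hA hx)) hy
        rwa [show y⁻¹ * (y * x * y⁻¹) * y = x by group] at this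
      exact (H ⟨x, hxY⟩).2 hx
  · exact fun H x => H x

/-- An involution of the pair normalising one of its members inverts it. -/
theorem inverts (hY : JPair P Y) {A : Subgroup G} (hA : A ≤ Y) (hc : Nat.card A = 11) {j : G} (hj : j ∈ Y)
    (hj2 : orderOf j = 2) (hjA : j ∈ normalizer (A : Set G)) : ∀ x ∈ A, j * x * j⁻¹ = x⁻¹ := by
  intro x hx
  have := hY.isJ.inverts (t := (⟨j, hj⟩ : ↥Y)) (by rw [orderOf_mk]; exact hj2)
    (by rw [card_subgroupOf hA, hc]) ((mem_normalizer_subgroupOf hA hj).2 hjA) ⟨x, hA hx⟩ hx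
  exact congrArg Subtype.val this

/-- Two members of the pair inverted by one of its involutions generate it. -/
theorem gen_of_inverted (hY : JPair P Y) (h : Core P) {A B : Subgroup G} (hA : A ≤ Y) (hB : B ≤ Y)
    (hcA : Nat.card A = 11) (hcB : Nat.card B = 11) (hne : A ≠ B) {j : G} (hj : j ∈ Y) (hj2 : orderOf j = 2)
    (hjA : j ∈ normalizer (A : Set G)) (hjB : j ∈ normalizer (B : Set G)) : A ⊔ B = Y := by
  rcases pair_any h.toSetting (hY.member h.toSetting hA hcA) (hY.member h.toSetting hB hcB) hne with hp | hp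
  · exfalso
    have hg := mem_normalizer_sup hjA hjB
    obtain ⟨x, hx⟩ := hp.inverting_sq (subAut hg) (A.subgroupOf (A ⊔ B)) (B.subgroupOf (A ⊔ B))
      (by rw [card_subgroupOf le_sup_left, hcA]) (by rw [card_subgroupOf le_sup_right, hcB])
      (subgroupOf_ne le_sup_left le_sup_right hne)
      (fun x hx => Subtype.ext (hY.inverts hA hcA hj hj2 hjA _ hx))
      (fun x hx => Subtype.ext (hY.inverts hB hcB hj hj2 hjB _ hx))
    rw [← Subgroup.orderOf_coe, Subgroup.coe_mul, subAut_val] at hx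
    have hjj : j⁻¹ = j := inv_eq_of_mul_eq_one_right (by rw [← sq, ← hj2, pow_orderOf_eq_one])
    set z : ↥Y := ⟨(x : G) * j, mul_mem (sup_le hA hB x.2) hj⟩
    have hz2 : orderOf (z ^ 2) = 2 := by
      rw [← Subgroup.orderOf_coe, Subgroup.coe_pow, sq]
      show orderOf ((x : G) * j * ((x : G) * j)) = 2
      rw [hjj] at hx
      simpa only [mul_assoc] using hx
    have hz : orderOf z = 2 ^ (1 + 1) := by
      haveI : Fact (Nat.Prime 2) := ⟨Nat.prime_two⟩
      refine orderOf_eq_prime_pow ?_ ?_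
      · intro e
        rw [pow_one] at e
        rw [e, orderOf_one] at hz2
        omega
      · show z ^ 4 = 1
        rw [show (4 : ℕ) = 2 * 2 from rfl, pow_mul]
        exact orderOf_dvd_iff_pow_eq_one.1 hz2.dvd
    have := hY.isJ.orderOf_mem z
    rw [hz] at this
    simp at this
  · exact Subgroup.eq_of_le_of_card_ge (sup_le hA hB) (by rw [hY.card, hp.card])

end JPair

/-- An exponent by which a normalising element acts on a member. -/
theorem exists_exponent {A : Subgroup G} (hA : Nat.card A = 11) {g : G} (hg : g ∈ normalizer (A : Set G)) :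
    ∃ c : ℕ, ∀ x ∈ A, g * x * g⁻¹ = x ^ c := by
  obtain ⟨a, ha, ha1⟩ := exists_ne_one hA
  have hgen : zpowers a = A := eq_of_le_of_card_ge (zpowers_le.2 ha)
    (by rw [Nat.card_zpowers, orderOf_eleven hA ha ha1, hA])
  have hm : g * a * g⁻¹ ∈ zpowers a := hgen.symm ▸ (mem_normalizer_iff.1 hg a).1 ha
  obtain ⟨c, hc⟩ := mem_powers_iff_mem_zpowers.2 hm
  refine ⟨c, fun x hx => ?_⟩
  obtain ⟨i, rfl⟩ := mem_zpowers_iff.1 (hgen ▸ hx : x ∈ zpowers a)
  dsimp only at hc
  rw [← conj_zpow, ← hc, ← zpow_natCast, ← zpow_natCast, ← zpow_mul, ← zpow_mul, mul_comm]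

theorem conj_pow_exponent {A : Subgroup G} {g : G} {c : ℕ} (hc : ∀ x ∈ A, g * x * g⁻¹ = x ^ c) (k : ℕ) :
    ∀ x ∈ A, g ^ k * x * (g ^ k)⁻¹ = x ^ c ^ k := by
  induction k with
  | zero => simp
  | succ k ih =>
    intro x hx
    rw [pow_succ', show g * g ^ k * x * (g * g ^ k)⁻¹ = g * (g ^ k * x * (g ^ k)⁻¹) * g⁻¹ by group, ih x hx,
      hc _ (pow_mem hx _), ← pow_mul, pow_succ]

theorem modEq_of_pow_eq {A : Subgroup G} (hA : Nat.card A = 11) {x : G} (hx : x ∈ A) (hx1 : x ≠ 1) {m n : ℕ}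
    (he : x ^ m = x ^ n) : m ≡ n [MOD 11] := by
  rwa [← orderOf_eleven hA hx hx1, ← pow_eq_pow_iff_modEq]

theorem pow_eq_of_modEq {A : Subgroup G} (hA : Nat.card A = 11) {x : G} (hx : x ∈ A) {m n : ℕ}
    (he : m ≡ n [MOD 11]) : x ^ m = x ^ n :=
  pow_eq_pow_iff_modEq.2 (he.of_dvd (hA ▸ orderOf_dvd_natCard A hx))

/-- The exponents on two members of an element of order ten on the first are inverse. -/
theorem exponent_pair (h : Setting P) {Q R : Subgroup G} (hQ : Member P Q) (hR : Member P R) (hne : Q ≠ R)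
    {g : G} (hgR : g ∈ normalizer (R : Set G)) (hgQ : g ∈ normalizer (Q : Set G)) {a : ℕ}
    (ha : ∀ x ∈ Q, g * x * g⁻¹ = x ^ a) (h2 : ¬ a ^ 2 ≡ 1 [MOD 11]) (h5 : ¬ a ^ 5 ≡ 1 [MOD 11]) :
    ∀ y ∈ R, (g * y * g⁻¹) ^ a = y := by
  intro y hy
  have hg := mem_normalizer_sup hgQ hgR
  have ha' : ∀ x ∈ Q.subgroupOf (Q ⊔ R), subAut hg x = x ^ a := fun x hx =>
    Subtype.ext (by rw [subAut_val, Subgroup.coe_pow]; exact ha _ hx)
  have cQ : Nat.card (Q.subgroupOf (Q ⊔ R)) = 11 := by rw [card_subgroupOf le_sup_left, member_card h hQ]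
  have cR : Nat.card (R.subgroupOf (Q ⊔ R)) = 11 := by rw [card_subgroupOf le_sup_right, member_card h hR]
  have hn := subgroupOf_ne (le_sup_left : Q ≤ Q ⊔ R) le_sup_right hne
  have hmR := subgroupOf_map_subAut hg (le_sup_right : R ≤ Q ⊔ R) hgR
  have hmQ := subgroupOf_map_subAut hg (le_sup_left : Q ≤ Q ⊔ R) hgQ
  have := (pair_any h hQ hR hne).elim
    (fun hp => hp.exponent _ _ _ cQ cR hn hmR a ha' ⟨y, mem_sup_right hy⟩ hy)
    (fun hp => hp.exponent _ _ _ cQ cR hn hmQ hmR a ha' h2 h5 ⟨y, mem_sup_right hy⟩ hy)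
  exact congrArg Subtype.val this

/-- An element acting with order ten on a member normalises at most one other. -/
theorem no_three (h : Setting P) {Q R S : Subgroup G} (hQ : Member P Q) (hR : Member P R) (hS : Member P S)
    (hQR : Q ≠ R) (hQS : Q ≠ S) {g : G} (hgQ : g ∈ normalizer (Q : Set G))
    (hgR : g ∈ normalizer (R : Set G)) (hgS : g ∈ normalizer (S : Set G)) {a : ℕ}
    (ha : ∀ x ∈ Q, g * x * g⁻¹ = x ^ a) (h2 : ¬ a ^ 2 ≡ 1 [MOD 11]) (h5 : ¬ a ^ 5 ≡ 1 [MOD 11]) :
    R = S := by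
  by_contra hRS
  have ha10 : a ^ 10 ≡ 1 [MOD 11] := by
    obtain ⟨x, hx, hx1⟩ := exists_ne_one (member_card h hQ)
    have hna : ¬ 11 ∣ a := fun hd => by
      have := ha x hx
      rw [orderOf_dvd_iff_pow_eq_one.1 ((orderOf_eleven (member_card h hQ) hx hx1) ▸ hd), mul_inv_eq_one,
        mul_eq_left] at this
      exact hx1 this
    have := Nat.ModEq.pow_totient (n := 11) (x := a)
      ((Nat.Prime.coprime_iff_not_dvd (by norm_num)).2 hna).symm
    rwa [Nat.totient_prime (by norm_num : Nat.Prime 11)] at this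
  have key : ∀ T, Member P T → Q ≠ T → g ∈ normalizer (T : Set G) → ∀ y ∈ T, g * y * g⁻¹ = y ^ a ^ 9 := by
    intro T hT hQT hgT y hy
    have hmem : g * y * g⁻¹ ∈ T := (mem_normalizer_iff.1 hgT y).1 hy
    conv_rhs => rw [← exponent_pair h hQ hT hQT hgT hgQ ha h2 h5 y hy, ← pow_mul, ← pow_succ']
    conv_lhs => rw [← pow_one (g * y * g⁻¹)]
    exact pow_eq_of_modEq (member_card h hT) hmem ha10.symm
  have e10 : ∀ m n, a ^ (10 * m + n) ≡ a ^ n [MOD 11] := fun m n => by
    rw [pow_add, pow_mul]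
    simpa using (ha10.pow m).mul (Nat.ModEq.refl (a ^ n))
  have b2 : ¬ (a ^ 9) ^ 2 ≡ 1 [MOD 11] := fun e => h2 (by
    rw [← pow_mul] at e
    have e' := (Nat.ModEq.refl (a ^ 2)).mul e
    rw [← pow_add, mul_one] at e'
    exact e'.symm.trans (by simpa using e10 2 0))
  have b5 : ¬ (a ^ 9) ^ 5 ≡ 1 [MOD 11] := fun e => h5 (by
    rw [← pow_mul] at e
    exact (e10 4 5).symm.trans e)
  obtain ⟨z, hz, hz1⟩ := exists_ne_one (member_card h hS)
  have e1 := exponent_pair h hR hS hRS hgS hgR (key R hR hQR hgR) b2 b5 z hz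
  rw [key S hS hQS hgS z hz, ← pow_mul] at e1
  have e2 := modEq_of_pow_eq (member_card h hS) hz hz1 (e1.trans (pow_one z).symm)
  refine b2 ?_
  rwa [sq]

end Cfsg.Agent.ElevenPairs.JCase
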