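import Cfsg.Agent.Lib.ElevenPairs.Basic
import Cfsg.Agent.Lib.ElevenPairs.JCase.Pairs

/-!
# An involution inverting a member and normalising a pair through it

All pairs through the member whose second member the involution normalises are then of the first Janko type.
-/

set_option autoImplicit false
set_option linter.unusedSectionVars false
set_option linter.style.haveILetI false

namespace Cfsg.Agent.ElevenPairs.JCase

open Subgroup

universe u

variable {G : Type u} [Group G] [Finite G] {P : Subgroup G}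

/-- An involution `t` inverting the member `A` and normalising the pair `Y` through it. -/
structure Frame (P Y A : Subgroup G) (t : G) : Prop where
  pair : JPair P Y
  le : A ≤ Y
  cardA : Nat.card A = 11
  ord : orderOf t = 2
  normY : t ∈ normalizer (Y : Set G)
  inv : ∀ x ∈ A, t * x * t⁻¹ = x⁻¹

namespace Frame

variable {Y A : Subgroup G} {t : G}

theorem member (F : Frame P Y A t) (h : Setting P) : Member P A := F.pair.member h F.le F.cardA

theorem inv_self (F : Frame P Y A t) : t⁻¹ = t :=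
  inv_eq_of_mul_eq_one_right (by rw [← sq, ← F.ord, pow_orderOf_eq_one])

theorem normA (F : Frame P Y A t) : t ∈ normalizer (A : Set G) := by
  refine mem_normalizer_of_map (Subgroup.eq_of_le_of_card_ge ?_
    (le_of_eq (Subgroup.card_map_of_injective (MulEquiv.injective _)).symm))
  rintro _ ⟨x, hx, rfl⟩
  show t * x * t⁻¹ ∈ A
  rw [F.inv x hx]
  exact inv_mem hx

/-- The part of `t` inside the pair. -/
theorem exists_inner (F : Frame P Y A t) : ∃ j ∈ Y, orderOf j = 2 ∧ j⁻¹ * t ∈ centralizer (Y : Set G) ∧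
    Commute t j ∧ ∀ x ∈ Y, t * x * t⁻¹ = j * x * j⁻¹ := by
  obtain ⟨j, hj, hk⟩ := F.pair.decompose F.normY
  have hact : ∀ x ∈ Y, t * x * t⁻¹ = j * x * j⁻¹ := by
    intro x hx
    have := mem_centralizer_iff.1 hk x hx
    calc t * x * t⁻¹ = j * (j⁻¹ * t * x) * t⁻¹ := by group
      _ = j * x * j⁻¹ := by rw [← this]; group
  have hcomm : Commute t j := by
    have := hact j hj
    rw [mul_inv_cancel_right, mul_inv_eq_iff_eq_mul] at this
    exact this
  have hj1 : j ≠ 1 := by
    intro e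
    obtain ⟨a, ha, ha1⟩ := exists_ne_one F.cardA
    have h1 := hact a (F.le ha)
    rw [F.inv a ha, e, one_mul, inv_one, mul_one] at h1
    have h2 : orderOf a ∣ 2 := orderOf_dvd_of_pow_eq_one (by rw [sq]; nth_rewrite 1 [← h1]; rw [inv_mul_cancel])
    rw [orderOf_eleven F.cardA ha ha1] at h2
    omega
  have hsq : j * j = 1 := by
    apply F.pair.eq_one_of_centralizes (mul_mem hj hj)
    have e1 : j⁻¹ * t * (j⁻¹ * t) = (j * j)⁻¹ := by
      calc j⁻¹ * t * (j⁻¹ * t) = j⁻¹ * (t * j⁻¹) * t := by group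
        _ = j⁻¹ * (j⁻¹ * t) * t⁻¹ := by rw [hcomm.inv_right.eq, F.inv_self]
        _ = (j * j)⁻¹ := by group
    have := inv_mem (mul_mem hk hk)
    rwa [e1, inv_inv] at this
  haveI : Fact (Nat.Prime 2) := ⟨Nat.prime_two⟩
  exact ⟨j, hj, orderOf_eq_prime (by rw [sq, hsq]) hj1, hk, hcomm, hact⟩

theorem inner_normalizes (F : Frame P Y A t) {j : G}
    (hact : ∀ x ∈ Y, t * x * t⁻¹ = j * x * j⁻¹) {B : Subgroup G} (hB : B ≤ Y) :
    j ∈ normalizer (B : Set G) ↔ t ∈ normalizer (B : Set G) := by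
  rw [mem_normalizer_iff_map, mem_normalizer_iff_map]
  have : B.map (MulAut.conj j).toMonoidHom = B.map (MulAut.conj t).toMonoidHom :=
    SetLike.ext' (Set.image_congr fun x hx => (hact x (hB hx)).symm)
  rw [this]

/-- The members of the pair normalised by `t` are inverted. -/
theorem move (F : Frame P Y A t) {B : Subgroup G} (hB : B ≤ Y) (hc : Nat.card B = 11)
    (ht : t ∈ normalizer (B : Set G)) : Frame P Y B t := by
  obtain ⟨j, hj, hj2, -, -, hact⟩ := F.exists_inner
  exact ⟨F.pair, hB, hc, F.ord, F.normY, fun x hx => by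
    rw [hact x (hB hx)]
    exact F.pair.inverts hB hc hj hj2 ((F.inner_normalizes hact hB).2 ht) x hx⟩

/-- Two members of the pair normalised by `t` generate it. -/
theorem gen (F : Frame P Y A t) (h : Core P) {B : Subgroup G} (hB : B ≤ Y) (hc : Nat.card B = 11)
    (hne : A ≠ B) (ht : t ∈ normalizer (B : Set G)) : A ⊔ B = Y := by
  obtain ⟨j, hj, hj2, -, -, hact⟩ := F.exists_inner
  exact F.pair.gen_of_inverted h F.le hB F.cardA hc hne hj hj2 ((F.inner_normalizes hact F.le).2 F.normA)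
    ((F.inner_normalizes hact hB).2 ht)

/-- An element of order five of the pair commuting with `t` normalises `A` and a second member. -/
theorem exists_five (F : Frame P Y A t) : ∃ f ∈ Y, orderOf f = 5 ∧ Commute f t ∧
    f ∈ normalizer (A : Set G) ∧ f ∉ centralizer (A : Set G) ∧
    ∃ A' : Subgroup G, A' ≤ Y ∧ Nat.card A' = 11 ∧ A' ≠ A ∧ t ∈ normalizer (A' : Set G) ∧
      f ∈ normalizer (A' : Set G) ∧
      ∀ z, Commute z t → z ∈ normalizer (Y : Set G) → z ∈ normalizer (A : Set G) →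
        z ∈ normalizer (A' : Set G) := by
  obtain ⟨j, hj, hj2, hk, -, hact⟩ := F.exists_inner
  have hjA : j ∈ normalizer (A : Set G) := (F.inner_normalizes hact F.le).2 F.normA
  set A₀ := A.subgroupOf Y
  set j₀ : ↥Y := ⟨j, hj⟩
  have hA₀ : Nat.card A₀ = 11 := by rw [card_subgroupOf F.le, F.cardA]
  have hj₀ : orderOf j₀ = 2 := by rw [orderOf_mk]; exact hj2
  have hjA₀ : j₀ ∈ normalizer (A₀ : Set ↥Y) := (JPair.mem_normalizer_subgroupOf F.le hj).2 hjA
  obtain ⟨f₀, hf₀, hfj₀, hfA₀⟩ := F.pair.isJ.exists_five hj₀ hA₀ hjA₀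
  obtain ⟨v₀, -, hvj₀, hvf₀⟩ := F.pair.isJ.exists_inverter hj₀ hf₀ hfj₀
  have hv₀ := F.pair.isJ.inverter_moves hj₀ hA₀ hjA₀ hf₀ hfj₀ hfA₀ hvj₀ hvf₀
  have hfA : (f₀ : G) ∈ normalizer (A : Set G) := (JPair.mem_normalizer_subgroupOf F.le f₀.2).1 hfA₀
  have hfj : Commute (f₀ : G) j := congrArg Subtype.val hfj₀.eq
  have hvj : Commute (v₀ : G) j := congrArg Subtype.val hvj₀.eq
  have htcomm : ∀ x ∈ Y, Commute x j → Commute x t := by
    intro x hx hxj
    have := hact x hx
    rw [← hxj.eq, mul_inv_cancel_right, mul_inv_eq_iff_eq_mul] at this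
    exact this.symm
  have hA'Y : A.map (MulAut.conj (v₀ : G)).toMonoidHom ≤ Y := by
    rintro _ ⟨x, hx, rfl⟩
    exact mul_mem (mul_mem v₀.2 (F.le hx)) (inv_mem v₀.2)
  have hjA' : j ∈ normalizer ((A.map (MulAut.conj (v₀ : G)).toMonoidHom : Subgroup G) : Set G) := by
    rw [mem_normalizer_map_iff, mul_assoc, ← hvj.eq, inv_mul_cancel_left]
    exact hjA
  have hfA' : (f₀ : G) ∈ normalizer ((A.map (MulAut.conj (v₀ : G)).toMonoidHom : Subgroup G) : Set G) := by
    rw [mem_normalizer_map_iff]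
    have e : (v₀ : G) * f₀ * (v₀ : G)⁻¹ = (f₀ : G)⁻¹ := congrArg Subtype.val hvf₀
    have e2 : (v₀ : G)⁻¹ * f₀ * v₀ = (f₀ : G)⁻¹ := by
      have h3 : (v₀ : G)⁻¹ * ((v₀ : G) * f₀ * (v₀ : G)⁻¹)⁻¹ * v₀ = (f₀ : G)⁻¹ := by group
      rwa [e, inv_inv] at h3
    rw [e2]
    exact inv_mem hfA
  refine ⟨f₀, f₀.2, by rw [Subgroup.orderOf_coe, hf₀], htcomm _ f₀.2 hfj, hfA, ?_,
    A.map (MulAut.conj (v₀ : G)).toMonoidHom, hA'Y,
    by rw [Subgroup.card_map_of_injective (MulEquiv.injective _), F.cardA], ?_,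
    (F.inner_normalizes hact hA'Y).1 hjA', hfA', ?_⟩
  · intro hc
    have hm : f₀ ∈ centralizer (A₀ : Set ↥Y) :=
      mem_centralizer_iff.2 fun x hx => Subtype.ext (mem_centralizer_iff.1 hc (x : G) hx)
    rw [F.pair.isJ.centralizer_eleven hA₀] at hm
    have := hA₀ ▸ orderOf_dvd_natCard A₀ hm
    rw [hf₀] at this
    omega
  · intro e
    exact hv₀ ((JPair.mem_normalizer_subgroupOf F.le v₀.2).2 (mem_normalizer_of_map e))
  · intro z hzt hzY hzA
    obtain ⟨y, hy, hyz⟩ := F.pair.decompose hzY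
    have hzact : ∀ x ∈ Y, z * x * z⁻¹ = y * x * y⁻¹ := by
      intro x hx
      have := mem_centralizer_iff.1 hyz x hx
      calc z * x * z⁻¹ = y * (y⁻¹ * z * x) * z⁻¹ := by group
        _ = y * x * y⁻¹ := by rw [← this]; group
    have hnorm : ∀ B : Subgroup G, B ≤ Y → (z ∈ normalizer (B : Set G) ↔ y ∈ normalizer (B : Set G)) := by
      intro B hB
      rw [mem_normalizer_iff_map, mem_normalizer_iff_map,
        show B.map (MulAut.conj z).toMonoidHom = B.map (MulAut.conj y).toMonoidHom from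
          SetLike.ext' (Set.image_congr fun x hx => hzact x (hB hx))]
    have hyj : Commute y j := by
      have e1 : z * j * z⁻¹ * (z * (j⁻¹ * t) * z⁻¹) = t := by
        calc z * j * z⁻¹ * (z * (j⁻¹ * t) * z⁻¹) = z * t * z⁻¹ := by group
          _ = t := by rw [hzt.eq, mul_inv_cancel_right]
      have hz' : z * (j⁻¹ * t) * z⁻¹ ∈ centralizer (Y : Set G) := by
        rw [mem_centralizer_iff]
        intro x hx
        have hx' : z⁻¹ * x * z ∈ Y := (mem_normalizer_iff''.1 hzY x).1 hx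
        have := mem_centralizer_iff.1 hk _ hx'
        calc x * (z * (j⁻¹ * t) * z⁻¹) = z * (z⁻¹ * x * z * (j⁻¹ * t)) * z⁻¹ := by group
          _ = z * (j⁻¹ * t) * z⁻¹ * x := by rw [this]; group
      have e2 : j⁻¹ * (z * j * z⁻¹) = j⁻¹ * t * (z * (j⁻¹ * t) * z⁻¹)⁻¹ := by
        rw [mul_assoc j⁻¹ t, eq_comm, mul_right_inj, mul_inv_eq_iff_eq_mul, e1]
      have h3 := F.pair.eq_one_of_centralizes
        (mul_mem (inv_mem hj) ((mem_normalizer_iff.1 hzY j).1 hj)) (e2 ▸ mul_mem hk (inv_mem hz'))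
      rw [inv_mul_eq_one, hzact j hj, eq_mul_inv_iff_mul_eq] at h3
      exact h3.symm
    have hys := F.pair.isJ.mem_stab hj₀ hA₀ hjA₀ hf₀ hfj₀ hfA₀ (g := ⟨y, hy⟩) (Subtype.ext hyj.eq)
      ((JPair.mem_normalizer_subgroupOf F.le hy).2 ((hnorm A F.le).1 hzA))
    obtain ⟨i, hi⟩ := mem_zpowers_iff.1 hys
    refine (hnorm _ hA'Y).2 ?_
    rw [show y = ((j₀ * f₀ : ↥Y) : G) ^ i from by rw [← Subgroup.coe_zpow, hi]]
    exact zpow_mem (mul_mem hjA' hfA') i

/-- Exponent of `t z` on `A` for `z` inducing order five. -/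
theorem exponent_five (F : Frame P Y A t) {z : G} (hzA : z ∈ normalizer (A : Set G))
    (hz5 : z ^ 5 ∈ centralizer (A : Set G)) (hzc : z ∉ centralizer (A : Set G)) : ∃ a : ℕ, (∀ x ∈ A, t * z * x * (t * z)⁻¹ = x ^ a) ∧
      ¬ a ^ 2 ≡ 1 [MOD 11] ∧ ¬ a ^ 5 ≡ 1 [MOD 11] := by
  obtain ⟨c, hc⟩ := exists_exponent F.cardA hzA
  obtain ⟨x₀, hx₀, hx₁⟩ := exists_ne_one F.cardA
  have hc5 : c ^ 5 ≡ 1 [MOD 11] := by
    refine modEq_of_pow_eq F.cardA hx₀ hx₁ ?_
    rw [← conj_pow_exponent hc 5 x₀ hx₀, ← mem_centralizer_iff.1 hz5 x₀ hx₀, mul_inv_cancel_right, pow_one]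
  have hc1 : ¬ c ≡ 1 [MOD 11] := fun e => hzc (mem_centralizer_iff.2 fun x hx => by
    have := hc x hx
    rw [pow_eq_of_modEq F.cardA hx e, pow_one] at this
    exact (mul_inv_eq_iff_eq_mul.1 this).symm)
  refine ⟨10 * c, fun x hx => ?_, fun e => hc1 ?_, fun e => ?_⟩
  · calc t * z * x * (t * z)⁻¹ = t * (z * x * z⁻¹) * t⁻¹ := by group
      _ = (x ^ c)⁻¹ := by rw [hc x hx, F.inv _ (pow_mem hx c)]
      _ = x ^ (10 * c) := by
        rw [inv_eq_iff_mul_eq_one, ← pow_add, show c + 10 * c = 11 * c by ring, pow_mul]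
        rw [orderOf_dvd_iff_pow_eq_one.1 (F.cardA ▸ Subgroup.orderOf_dvd_natCard A hx : orderOf x ∣ 11), one_pow]
  · rw [mul_pow] at e
    have h2 : c ^ 2 ≡ 1 [MOD 11] := by
      have := (show 10 ^ 2 ≡ 1 [MOD 11] by decide).mul (Nat.ModEq.refl (c ^ 2))
      rw [one_mul] at this
      exact this.symm.trans e
    have h4 : c ^ 4 ≡ 1 [MOD 11] := by
      have := h2.mul h2
      rwa [← pow_add, mul_one] at this
    have := h4.mul (Nat.ModEq.refl c)
    rw [← pow_succ, one_mul] at this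
    exact this.symm.trans hc5
  · rw [mul_pow] at e
    have := ((Nat.ModEq.refl (10 ^ 5)).mul hc5).symm.trans e
    revert this
    decide

/-- `t` and `z` have only one common fixed member besides `A`. -/
theorem fixed_unique (F : Frame P Y A t) (h : Setting P) {z : G} (hzA : z ∈ normalizer (A : Set G))
    (hz5 : z ^ 5 ∈ centralizer (A : Set G)) (hzc : z ∉ centralizer (A : Set G)) {R S : Subgroup G} (hR : Member P R)
    (hS : Member P S) (hAR : A ≠ R) (hAS : A ≠ S) (htR : t ∈ normalizer (R : Set G))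
    (htS : t ∈ normalizer (S : Set G)) (hzR : z ∈ normalizer (R : Set G))
    (hzS : z ∈ normalizer (S : Set G)) : R = S := by
  obtain ⟨a, ha, h2, h5⟩ := F.exponent_five hzA hz5 hzc
  exact no_three h (F.member h) hR hS hAR hAS (mul_mem F.normA hzA) (mul_mem htR hzR) (mul_mem htS hzS)
    ha h2 h5

/-- A second member fixed by `t` and an element of order five comes from the given pair. -/
theorem exists_conj_pair (F : Frame P Y A t) (h : Core P) {Q : Subgroup G} (hQ : Member P Q) (hne : A ≠ Q)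
    (htQ : t ∈ normalizer (Q : Set G)) {z : G} (hzt : Commute z t) (hzA : z ∈ normalizer (A : Set G))
    (hzQ : z ∈ normalizer (Q : Set G)) (hz5 : z ^ 5 = 1) (hzc : z ∉ centralizer (A : Set G)) :
    ∃ b : G, Commute b t ∧ b ∈ normalizer (A : Set G) ∧
      Y.map (MulAut.conj b).toMonoidHom = A ⊔ Q := by
  obtain ⟨f, hfY, hf, hft, hfA, hfc, A', hA'Y, hA'c, hA'ne, htA', hfA', hstab⟩ := F.exists_five
  have hA' : Member P A' := F.pair.member h.toSetting hA'Y hA'c
  have hA'sup : A ⊔ A' = Y := F.gen h hA'Y hA'c (Ne.symm hA'ne) htA'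
  set N := normalizer (A : Set G) ⊓ centralizer ({t} : Set G)
  set S := (normalizer (Y : Set G)).subgroupOf N
  have hf5 : f ^ 5 = 1 := by rw [← hf, pow_orderOf_eq_one]
  set f₁ : ↥N := ⟨f, hfA, mem_centralizer_singleton_iff.2 hft.eq⟩
  set z₁ : ↥N := ⟨z, hzA, mem_centralizer_singleton_iff.2 hzt.eq⟩
  have hconj : ∀ (b : ↥N) (g : G), Commute g t → Commute ((b : G)⁻¹ * g * b) t := fun b g hg =>
    ((show Commute (b : G) t from mem_centralizer_singleton_iff.1 b.2.2).inv_left.mul_left hg).mul_left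
      (mem_centralizer_singleton_iff.1 b.2.2)
  have hfix : ∀ (g b : ↥N), g • (QuotientGroup.mk b : ↥N ⧸ S) = QuotientGroup.mk b →
      (b : G)⁻¹ * g * b ∈ normalizer (Y : Set G) := by
    intro g b e
    rw [MulAction.Quotient.smul_mk, eq_comm, QuotientGroup.eq, mem_subgroupOf] at e
    simpa [mul_assoc] using e
  -- the only coset fixed by `f` is the trivial one
  have honly : ∀ b : ↥N, f₁ • (QuotientGroup.mk b : ↥N ⧸ S) = QuotientGroup.mk b →
      (QuotientGroup.mk b : ↥N ⧸ S) = QuotientGroup.mk 1 := by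
    intro b e
    have hz' := hfix f₁ b e
    have hbA : (b : G)⁻¹ * f * b ∈ normalizer (A : Set G) := mul_mem (mul_mem (inv_mem b.2.1) hfA) b.2.1
    have hfb : (b : G)⁻¹ * f * b ∈ normalizer (A' : Set G) := hstab _ (hconj b f hft) hz' hbA
    have hb : A'.map (MulAut.conj (b : G)).toMonoidHom = A' := by
      refine (F.fixed_unique h.toSetting hfA (hf5.symm ▸ one_mem _) hfc hA' (hA'.conj _) (Ne.symm hA'ne) (fun e => hA'ne ?_) htA'
        (mem_normalizer_map_iff.2 ?_) hfA' (mem_normalizer_map_iff.2 hfb)).symm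
      · exact Subgroup.map_injective (MulEquiv.injective _) (e.symm.trans (map_conj_eq_self b.2.1).symm)
      · rw [mul_assoc, ← mem_centralizer_singleton_iff.1 b.2.2, inv_mul_cancel_left]
        exact htA'
    rw [QuotientGroup.eq, mem_subgroupOf, mul_one]
    simp only [Subgroup.coe_inv]
    refine inv_mem ?_
    rw [← hA'sup]
    exact mem_normalizer_sup b.2.1 (mem_normalizer_of_map hb)
  haveI : Fact (Nat.Prime 5) := ⟨Nat.prime_five⟩
  have hpf : IsPGroup 5 ↥(zpowers f₁) := IsPGroup.of_card (n := 1) (by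
    rw [Nat.card_zpowers, pow_one, ← Subgroup.orderOf_coe]; exact hf)
  have hfixed : MulAction.fixedPoints ↥(zpowers f₁) (↥N ⧸ S) = {QuotientGroup.mk 1} := by
    ext x
    obtain ⟨b, rfl⟩ := QuotientGroup.mk_surjective x
    constructor
    · exact fun hx => honly b (hx ⟨f₁, mem_zpowers _⟩)
    · intro hx
      rw [Set.mem_singleton_iff] at hx
      rw [hx]
      rintro ⟨g, hg⟩
      obtain ⟨i, rfl⟩ := mem_zpowers_iff.1 hg
      show (f₁ ^ i) • (QuotientGroup.mk (1 : ↥N) : ↥N ⧸ S) = QuotientGroup.mk 1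
      rw [MulAction.Quotient.smul_mk, QuotientGroup.eq, smul_eq_mul, mul_one, mul_one, inv_mem_iff,
        mem_subgroupOf, Subgroup.coe_zpow]
      exact zpow_mem (le_normalizer hfY) i
  have hmod := hpf.card_modEq_card_fixedPoints (↥N ⧸ S)
  rw [hfixed, Nat.card_eq_fintype_card (α := ({QuotientGroup.mk 1} : Set (↥N ⧸ S))), Set.card_singleton] at hmod
  have hpz : IsPGroup 5 ↥(zpowers z₁) := fun g => ⟨1, by
    obtain ⟨i, hi⟩ := mem_zpowers_iff.1 g.2
    refine Subtype.ext ?_
    rw [SubgroupClass.coe_pow, ← hi, pow_one, ← zpow_natCast, ← zpow_mul, mul_comm, zpow_mul, zpow_natCast,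
      show z₁ ^ 5 = 1 from Subtype.ext hz5, one_zpow]
    rfl⟩
  obtain ⟨x, hx⟩ := hpz.nonempty_fixed_point_of_prime_not_dvd_card (↥N ⧸ S) (fun hd => by
    have := (Nat.modEq_zero_iff_dvd.2 hd).symm.trans hmod
    exact absurd this (by decide))
  obtain ⟨b, rfl⟩ := QuotientGroup.mk_surjective x
  have hz' := hfix z₁ b (hx ⟨z₁, mem_zpowers _⟩)
  have hbt : Commute (b : G) t := mem_centralizer_singleton_iff.1 b.2.2
  set z' := (b : G)⁻¹ * z * b
  have hz'A : z' ∈ normalizer (A : Set G) := mul_mem (mul_mem (inv_mem b.2.1) hzA) b.2.1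
  have hz'A' := hstab z' (hconj b z hzt) hz' hz'A
  have hz'5 : z' ^ 5 = 1 := by
    rw [show z' = MulAut.conj (b : G)⁻¹ z by simp [z'], ← map_pow, hz5, map_one]
  have hz'c : z' ∉ centralizer (A : Set G) := fun hc => hzc (mem_centralizer_iff.2 fun x hx => by
    have hx' : (b : G)⁻¹ * x * b ∈ A := (mem_normalizer_iff''.1 b.2.1 x).1 hx
    have := mem_centralizer_iff.1 hc _ hx'
    calc x * z = b * ((b : G)⁻¹ * x * b * z') * (b : G)⁻¹ := by simp only [z']; group
      _ = z * x := by rw [this]; simp only [z']; group)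
  set Q' := Q.map (MulAut.conj (b : G)⁻¹).toMonoidHom
  have hQ' : Q'.map (MulAut.conj (b : G)).toMonoidHom = Q := by
    rw [← map_conj_mul, mul_inv_cancel, map_conj_one]
  have e := F.fixed_unique h.toSetting hz'A (hz'5.symm ▸ one_mem _) hz'c hA' (hQ.conj _) (Ne.symm hA'ne)
    (fun e => hne ((map_conj_eq_self b.2.1).symm.trans ((congrArg (Subgroup.map _) e).trans hQ'))) htA'
    (mem_normalizer_map_iff.2 (by
      rw [inv_inv, hbt.eq, mul_assoc, mul_inv_cancel, mul_one]; exact htQ)) hz'A'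
    (mem_normalizer_map_iff.2 (by
      rw [inv_inv, show (b : G) * z' * (b : G)⁻¹ = z by simp only [z']; group]; exact hzQ))
  exact ⟨b, hbt, b.2.1, by rw [← hA'sup, Subgroup.map_sup, map_conj_eq_self b.2.1, e, hQ']⟩

/-- Every pair through `A` whose second member is normalised by `t` has the first Janko type, and comes
from the given one. -/
theorem all_pairs (F : Frame P Y A t) (h : Core P) {Q : Subgroup G} (hQ : Member P Q) (hne : A ≠ Q)
    (htQ : t ∈ normalizer (Q : Set G)) : IsJ ↥(A ⊔ Q) ∧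
      ∃ b : G, Commute b t ∧ b ∈ normalizer (A : Set G) ∧
        Y.map (MulAut.conj b).toMonoidHom = A ⊔ Q := by
  rcases pair_any h.toSetting (F.member h.toSetting) hQ hne with hp | hp
  · obtain ⟨f, -, hf, hfA, hfQ, hfx, -, hcomm⟩ := h.toSetting.exists_torus_L
      (Q := ⟨A, F.member h.toSetting⟩) (R := ⟨Q, hQ⟩) (fun e => hne (congrArg Subtype.val e)) hp
    have hft := hcomm t ((smul_eq_iff t _).2 F.normA) ((smul_eq_iff t _).2 htQ)
    obtain ⟨b, hbt, hbA, hb⟩ := F.exists_conj_pair h hQ hne htQ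
      (show Commute f t from (mul_inv_eq_iff_eq_mul.1 hft).symm)
      ((smul_eq_iff f _).1 hfA) ((smul_eq_iff f _).1 hfQ) (by rw [← hf, pow_orderOf_eq_one]) (fun hc => by
        obtain ⟨x, hx, hx1⟩ := exists_ne_one F.cardA
        have h1 := hfx x hx
        rw [← mem_centralizer_iff.1 hc x hx, mul_inv_cancel_right] at h1
        have := modEq_of_pow_eq F.cardA hx hx1 (m := 1) (n := 5) (by rw [pow_one]; exact h1)
        exact absurd this (by decide))
    have := (F.pair.conj b).card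
    rw [hb, hp.card] at this
    omega
  · refine ⟨hp, ?_⟩
    have F' : Frame P (A ⊔ Q) A t := ⟨⟨hp, A, Q, F.member h.toSetting, hQ, hne, rfl⟩, le_sup_left, F.cardA,
      F.ord, mem_normalizer_sup F.normA htQ, F.inv⟩
    obtain ⟨f, -, hf, hft, hfA, hfc, A', hA'Y, hA'c, hA'ne, htA', hfA', -⟩ := F'.exists_five
    obtain ⟨b, hbt, hbA, hb⟩ := F.exists_conj_pair h (F'.pair.member h.toSetting hA'Y hA'c) (Ne.symm hA'ne)
      htA' hft hfA hfA' (by rw [← hf, pow_orderOf_eq_one]) hfc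
    exact ⟨b, hbt, hbA, hb.trans (F'.gen h hA'Y hA'c (Ne.symm hA'ne) htA')⟩

/-- The frame moved to another member normalised by `t`. -/
theorem to_other (F : Frame P Y A t) (h : Core P) {Q : Subgroup G} (hQ : Member P Q) (hne : A ≠ Q)
    (htQ : t ∈ normalizer (Q : Set G)) : Frame P (A ⊔ Q) Q t := by
  have F' : Frame P (A ⊔ Q) A t :=
    ⟨⟨(F.all_pairs h hQ hne htQ).1, A, Q, F.member h.toSetting, hQ, hne, rfl⟩, le_sup_left, F.cardA,
      F.ord, mem_normalizer_sup F.normA htQ, F.inv⟩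
  exact F'.move le_sup_right (member_card h.toSetting hQ) htQ

/-- `t` inverts every member it normalises. -/
theorem inverts_all (F : Frame P Y A t) (h : Core P) {Q : Subgroup G} (hQ : Member P Q)
    (htQ : t ∈ normalizer (Q : Set G)) : ∀ x ∈ Q, t * x * t⁻¹ = x⁻¹ := by
  by_cases hne : A = Q
  · exact hne ▸ F.inv
  · exact (F.to_other h hQ hne htQ).inv

/-- Any two members normalised by `t` give a pair of the first Janko type. -/
theorem two (F : Frame P Y A t) (h : Core P) {Q R : Subgroup G} (hQ : Member P Q) (hR : Member P R)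
    (hne : Q ≠ R) (htQ : t ∈ normalizer (Q : Set G)) (htR : t ∈ normalizer (R : Set G)) :
    Frame P (Q ⊔ R) Q t := by
  obtain ⟨Y', F'⟩ : ∃ Y', Frame P Y' Q t := by
    by_cases hAQ : A = Q
    · exact ⟨Y, hAQ ▸ F⟩
    · exact ⟨_, F.to_other h hQ hAQ htQ⟩
  exact (F'.to_other h hR hne htR).move le_sup_left (member_card h.toSetting hQ) htQ

end Frame

end Cfsg.Agent.ElevenPairs.JCase
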