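import Cfsg.Agent.Lib.ElevenPairs.JCase.Axis
import Cfsg.Agent.Lib.Coprime.FixedPointFree
import Cfsg.Agent.Lib.CN.Basic
import Cfsg.Agent.S0042
import Cfsg.Agent.Solvable.Frobenius

/-!
# The Frobenius group on the pairs through a member
-/

set_option autoImplicit false
set_option linter.unusedSectionVars false
set_option linter.style.haveILetI false

namespace Cfsg.Agent.ElevenPairs.JCase

open Subgroup

universe u

variable {G : Type u} [Group G] [Finite G] {P : Subgroup G}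

/-- A group fixing one point and moving the others freely has order dividing the number of the others. -/
theorem card_dvd_sub_one {W α : Type*} [Group W] [Finite W] [Finite α] [MulAction W α] (a : α)
    (ha : ∀ w : W, w • a = a) (hfree : ∀ w : W, ∀ x : α, x ≠ a → w • x = x → w = 1) :
    Nat.card W ∣ Nat.card α - 1 := by
  classical
  letI : MulAction W {x : α // x ≠ a} :=
    { smul := fun w x => ⟨w • x.1, fun e => x.2 (MulAction.injective w (e.trans (ha w).symm))⟩
      one_smul := fun x => Subtype.ext (one_smul W x.1)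
      mul_smul := fun w w' x => Subtype.ext (mul_smul w w' x.1) }
  haveI := Fintype.ofFinite (Quotient (MulAction.orbitRel W {x : α // x ≠ a}))
  have h1 : Nat.card {x : α // x ≠ a} = Nat.card α - 1 := by
    have h2 : Nat.card α = Nat.card {x : α // x = a} + Nat.card {x : α // x ≠ a} := by
      rw [← Nat.card_sum, Nat.card_congr (Equiv.sumCompl _)]
    rw [(Nat.card_eq_one_iff_unique (α := {x : α // x = a})).2 ⟨⟨fun x y => Subtype.ext (x.2.trans y.2.symm)⟩, ⟨⟨a, rfl⟩⟩⟩] at h2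
    omega
  rw [← h1, Nat.card_congr (MulAction.selfEquivSigmaOrbitsQuotientStabilizer W {x : α // x ≠ a}), Nat.card_sigma]
  refine Finset.dvd_sum fun ω _ => ?_
  have hstab : MulAction.stabilizer W (Quotient.out ω) = ⊥ := eq_bot_iff.2 fun w hw =>
    mem_bot.2 (hfree w _ (Quotient.out ω).2 (congrArg Subtype.val hw))
  have h2 : Nat.card (W ⧸ MulAction.stabilizer W (Quotient.out ω)) = Nat.card W := by
    rw [← Subgroup.index_eq_card, hstab, Subgroup.index_bot]
  exact h2.symm.dvd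

/-- The Frobenius group: the part of the stabiliser of `A` acting through `f`. -/
def frobU (A : Subgroup G) (t f : G) : Subgroup G :=
  zpowers f ⊔ (stabA A t ⊓ centralizer (A : Set G))

namespace Axis

variable {Y A A' : Subgroup G} {t f v : G}

theorem f_normalizes_B (X : Axis P Y A t f v A') :
    zpowers f ≤ normalizer ((stabA A t ⊓ centralizer (A : Set G) : Subgroup G) : Set G) := by
  refine zpowers_le.2 (mem_normalizer_of_map (Subgroup.eq_of_le_of_card_ge ?_
    (le_of_eq (Subgroup.card_map_of_injective (MulEquiv.injective _)).symm)))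
  rintro _ ⟨b, ⟨hb1, hb2⟩, rfl⟩
  show f * b * f⁻¹ ∈ stabA A t ⊓ centralizer (A : Set G)
  have hfS : f ∈ stabA A t := X.f_mem_stabY.1
  refine Subgroup.mem_inf.2 ⟨mul_mem (mul_mem hfS hb1) (inv_mem hfS), mem_centralizer_iff.2 fun x hx => ?_⟩
  have hx' : f⁻¹ * x * f ∈ A := (mem_normalizer_iff''.1 X.fA x).1 hx
  have h1 := mem_centralizer_iff.1 hb2 _ hx'
  show x * (f * b * f⁻¹) = f * b * f⁻¹ * x
  calc x * (f * b * f⁻¹) = f * (f⁻¹ * x * f * b) * f⁻¹ := by group
    _ = f * b * f⁻¹ * x := by rw [h1]; group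

theorem mem_frobU (X : Axis P Y A t f v A') {g : G} :
    g ∈ frobU A t f ↔ ∃ i : ℕ, i < 5 ∧ ∃ b ∈ stabA A t ⊓ centralizer (A : Set G), g = f ^ i * b := by
  rw [← SetLike.mem_coe, frobU, coe_mul_of_left_le_normalizer_right _ _ X.f_normalizes_B, Set.mem_mul]
  constructor
  · rintro ⟨a, ha, b, hb, rfl⟩
    obtain ⟨i, rfl⟩ := mem_powers_iff_mem_zpowers.2 ha
    refine ⟨i % 5, Nat.mod_lt _ (by norm_num), b, hb, ?_⟩
    rw [← X.ordf, pow_mod_orderOf]
  · rintro ⟨i, -, b, hb, rfl⟩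
    exact ⟨f ^ i, pow_mem (mem_zpowers f) i, b, hb, rfl⟩

theorem frobU_le (X : Axis P Y A t f v A') : frobU A t f ≤ stabA A t :=
  sup_le (zpowers_le.2 X.f_mem_stabY.1) inf_le_left

theorem f_pow_inj (X : Axis P Y A t f v A') {i j : ℕ} (hi : i < 5) (hj : j < 5)
    (h : f ^ i * (f ^ j)⁻¹ ∈ centralizer (A : Set G)) : i = j := by
  by_contra hne
  set k := i + 4 * j
  have hk : f ^ k = f ^ i * (f ^ j)⁻¹ := by
    rw [eq_mul_inv_iff_mul_eq, ← pow_add, show k + j = i + 5 * j by simp only [k]; ring, pow_add, pow_mul,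
      ← X.ordf, pow_orderOf_eq_one, one_pow, mul_one]
  rw [← hk] at h
  have hco : Nat.Coprime k (orderOf f) := by
    rw [X.ordf, Nat.coprime_comm, Nat.Prime.coprime_iff_not_dvd Nat.prime_five]
    simp only [k]
    omega
  obtain ⟨c, hc⟩ := exists_pow_eq_self_of_coprime hco
  exact X.fnc (hc ▸ pow_mem h c)

/-- Counting a subgroup of the form `<f> L` with `L` centralising `A`. -/
theorem card_mul_five (X : Axis P Y A t f v A') {U L : Subgroup G} (hL : L ≤ centralizer (A : Set G))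
    (hLU : L ≤ U) (hfU : f ∈ U) (hU : ∀ g ∈ U, ∃ i : ℕ, i < 5 ∧ ∃ b ∈ L, g = f ^ i * b) :
    Nat.card U = 5 * Nat.card L := by
  rw [show (5 : ℕ) = Nat.card (Fin 5) from (Nat.card_fin 5).symm, ← Nat.card_prod]
  refine (Nat.card_congr (Equiv.ofBijective (fun p : Fin 5 × ↥L =>
    (⟨f ^ (p.1 : ℕ) * (p.2 : G), mul_mem (pow_mem hfU _) (hLU p.2.2)⟩ : ↥U)) ⟨?_, ?_⟩)).symm
  · rintro ⟨i, a⟩ ⟨j, b⟩ e
    have e1 : f ^ (i : ℕ) * (a : G) = f ^ (j : ℕ) * (b : G) := congrArg Subtype.val e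
    have hc : (f ^ (j : ℕ))⁻¹ * f ^ (i : ℕ) ∈ centralizer (A : Set G) := by
      have e2 : (f ^ (j : ℕ))⁻¹ * f ^ (i : ℕ) = (b : G) * (a : G)⁻¹ := by
        rw [eq_mul_inv_iff_mul_eq, mul_assoc, e1, inv_mul_cancel_left]
      rw [e2]
      exact mul_mem (hL b.2) (inv_mem (hL a.2))
    rw [((Commute.refl f).pow_pow _ _).inv_left.eq] at hc
    obtain rfl : i = j := Fin.ext (X.f_pow_inj i.2 j.2 hc)
    exact Prod.ext rfl (Subtype.ext (mul_left_cancel e1))
  · rintro ⟨g, hg⟩
    obtain ⟨i, hi, b, hb, rfl⟩ := hU g hg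
    exact ⟨(⟨i, hi⟩, ⟨b, hb⟩), rfl⟩

theorem card_B (X : Axis P Y A t f v A') (h : Core P) :
    Nat.card ↥(stabA A t ⊓ centralizer (A : Set G) : Subgroup G) =
      mOf Y A t * Nat.card ↥(centralizer (Y : Set G)) := by
  have h1 := X.card_stabA_eq h
  rw [X.card_stabA] at h1
  omega

theorem card_frobU (X : Axis P Y A t f v A') (h : Core P) :
    Nat.card (frobU A t f) = 5 * (mOf Y A t * Nat.card ↥(centralizer (Y : Set G))) := by
  rw [← X.card_B h]
  exact X.card_mul_five inf_le_right le_sup_right (mem_sup_left (mem_zpowers f)) fun g hg => X.mem_frobU.1 hg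

theorem mem_frobW (X : Axis P Y A t f v A') (h : Core P) {g : G} (hg : g ∈ frobU A t f ⊓ normalizer (Y : Set G)) :
    ∃ i : ℕ, i < 5 ∧ ∃ k ∈ centralizer (Y : Set G), g = f ^ i * k := by
  obtain ⟨hgU, hgY⟩ := hg
  obtain ⟨i, hi, b, hb, rfl⟩ := X.mem_frobU.1 hgU
  refine ⟨i, hi, b, ?_, rfl⟩
  rw [← X.stabY_centralizer h]
  refine ⟨mem_stabY.2 ⟨mem_stabA.1 hb.1, ?_⟩, hb.2⟩
  have := mul_mem (inv_mem (pow_mem (le_normalizer X.fY) i)) hgY
  rwa [inv_mul_cancel_left] at this

theorem CY_le_B (X : Axis P Y A t f v A') :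
    centralizer (Y : Set G) ≤ stabA A t ⊓ centralizer (A : Set G) :=
  fun _ hk => ⟨(X.CY_le_normalizer hk).1, centralizer_le X.le hk⟩

theorem card_frobW (X : Axis P Y A t f v A') (h : Core P) :
    Nat.card ↥(frobU A t f ⊓ normalizer (Y : Set G) : Subgroup G) = 5 * Nat.card ↥(centralizer (Y : Set G)) :=
  X.card_mul_five (centralizer_le X.le)
    (fun _ hk => ⟨mem_sup_right (X.CY_le_B hk), centralizer_le_normalizer _ hk⟩)
    ⟨mem_sup_left (mem_zpowers f), le_normalizer X.fY⟩ fun _ hg => X.mem_frobW h hg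

theorem frobU_pow_five (X : Axis P Y A t f v A') {g : G} (hg : g ∈ frobU A t f) :
    g ^ 5 ∈ centralizer (A : Set G) := by
  obtain ⟨i, -, b, ⟨-, hb⟩, rfl⟩ := X.mem_frobU.1 hg
  have hfi : f ^ i ∈ normalizer (A : Set G) := pow_mem X.fA i
  obtain ⟨c, hc⟩ := exists_exponent X.cardA hfi
  have hc' : ∀ x ∈ A, f ^ i * b * x * (f ^ i * b)⁻¹ = x ^ c := fun x hx => by
    rw [show f ^ i * b * x * (f ^ i * b)⁻¹ = f ^ i * (b * x * b⁻¹) * (f ^ i)⁻¹ by group,
      ← mem_centralizer_iff.1 hb x hx, mul_inv_cancel_right, hc x hx]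
  refine mem_centralizer_iff.2 fun x hx => ?_
  have e1 := conj_pow_exponent hc' 5 x hx
  rw [← conj_pow_exponent hc 5 x hx, ← pow_mul, mul_comm i, pow_mul, ← X.ordf, pow_orderOf_eq_one, one_pow,
    one_mul, inv_one, mul_one, X.ordf] at e1
  exact (mul_inv_eq_iff_eq_mul.1 e1).symm

/-- The stabiliser of the pair is malnormal. -/
theorem malnormal (X : Axis P Y A t f v A') (h : Core P) {g z : G} (hg : g ∈ stabA A t)
    (hzU : z ∈ frobU A t f) (hz : z ∈ normalizer (Y : Set G)) (hz' : g⁻¹ * z * g ∈ normalizer (Y : Set G))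
    (hz1 : z ≠ 1) : g ∈ normalizer (Y : Set G) := by
  obtain ⟨hgA, hgt⟩ := mem_stabA.1 hg
  obtain ⟨hzA, hzt⟩ := mem_stabA.1 (X.frobU_le hzU)
  set z' := g⁻¹ * z * g with hz'def
  have hz'S : z' ∈ stabY Y A t :=
    mem_stabY.2 ⟨⟨mul_mem (mul_mem (inv_mem hgA) hzA) hgA, (hgt.inv_left.mul_left hzt).mul_left hgt⟩, hz'⟩
  have hzS : z ∈ stabY Y A t := mem_stabY.2 ⟨⟨hzA, hzt⟩, hz⟩
  have hA' : Member P A' := X.memberA' h
  have hgz : g * z' * g⁻¹ = z := by simp [hz'def, mul_assoc]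
  suffices hgA' : A'.map (MulAut.conj g).toMonoidHom ≤ Y by
    refine mem_normalizer_of_map (Subgroup.eq_of_le_of_card_ge ?_
      (le_of_eq (Subgroup.card_map_of_injective (MulEquiv.injective _)).symm))
    rw [← X.gen' h, Subgroup.map_sup, map_conj_eq_self hgA, X.gen' h]
    exact sup_le X.le hgA'
  by_cases hzc : z ∈ centralizer (A : Set G)
  · have hzY : z ∈ centralizer (Y : Set G) := by rw [← X.stabY_centralizer h]; exact ⟨hzS, hzc⟩
    have hz'c : z' ∈ centralizer (A : Set G) := mem_centralizer_iff.2 fun x hx => by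
      have hx' : g * x * g⁻¹ ∈ A := (mem_normalizer_iff.1 hgA x).1 hx
      have h1 := mem_centralizer_iff.1 hzc _ hx'
      calc x * z' = g⁻¹ * (g * x * g⁻¹ * z) * g := by simp [hz'def, mul_assoc]
        _ = z' * x := by rw [h1]; simp [hz'def, mul_assoc]
    have hz'Y : z' ∈ centralizer (Y : Set G) := by rw [← X.stabY_centralizer h]; exact ⟨hz'S, hz'c⟩
    refine X.pair.le_of_centralized h hz1 hzY (hA'.conj g) (hgz ▸ mem_centralizer_smul ?_)
    exact centralizer_le X.leA' hz'Y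
  · have h1 := X.toFrame.fixed_unique h.toSetting hzA (X.frobU_pow_five hzU) hzc hA' (hA'.conj g) (Ne.symm X.neA')
      (fun e => X.neA' (Subgroup.map_injective (MulEquiv.injective _)
        (e.symm.trans (map_conj_eq_self hgA).symm))) X.tA'
      (mem_normalizer_map_iff.2 (by rw [mul_assoc, ← hgt.eq, inv_mul_cancel_left]; exact X.tA'))
      (X.stabY_fix' hzS) (mem_normalizer_map_iff.2 (X.stabY_fix' hz'S))
    rw [← h1]
    exact X.leA'

/-- Consequences of the Frobenius structure. -/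
theorem frobenius (X : Axis P Y A t f v A') (h : Core P) (hm : 1 < mOf Y A t) :
    5 * Nat.card ↥(centralizer (Y : Set G)) ∣ mOf Y A t - 1 ∧ ¬ 5 ∣ Nat.card ↥(centralizer (Y : Set G)) ∧
      ∀ q q' : ℕ, q.Prime → q'.Prime → q ∣ mOf Y A t → q' ∣ mOf Y A t → q ≠ q' →
        ∃ x : G, Commute x t ∧ orderOf x = q * q' ∧ Odd (orderOf x) := by
  classical
  set m := mOf Y A t
  set K := Nat.card ↥(centralizer (Y : Set G))
  set U := frobU A t f
  set W := (U ⊓ normalizer (Y : Set G)).subgroupOf U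
  have hK : 0 < K := Nat.card_pos
  have hW : Nat.card W = 5 * K := by
    rw [Nat.card_congr (subgroupOfEquivOfLe inf_le_left).toEquiv, X.card_frobW h]
  have hUc : Nat.card ↥U = 5 * (m * K) := X.card_frobU h
  have hidx : W.index = m := by
    have h1 := W.card_mul_index
    rw [hW, hUc] at h1
    exact Nat.eq_of_mul_eq_mul_left (show 0 < 5 * K by omega) (by rw [h1]; ring)
  have hFrob : Cfsg.IsFrobeniusComplement W := by
    refine ⟨fun e => ?_, fun e => ?_, fun g hg => ?_⟩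
    · rw [e, card_bot] at hW; omega
    · rw [e, index_top] at hidx; omega
    · rw [eq_bot_iff]
      rintro x ⟨hx, hx'⟩
      have hx'' := (Characters.mem_conj_smul_iff g x).1 hx'
      by_contra hx1
      exact hg ⟨g.2, X.malnormal h (X.frobU_le g.2) x.2 hx.2 hx''.2
        (fun e => hx1 (mem_bot.2 (Subtype.ext e)))⟩
  obtain ⟨M, hMk, hMn, hMnil⟩ := S0042.result W hFrob
  obtain ⟨M₂, hM₂k, -, hcomp⟩ := Characters.frobenius_kernel_theorem hFrob
  obtain rfl : M = M₂ := SetLike.coe_injective (hMk.trans hM₂k.symm)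
  have hfpf := Solvable.Frobenius.fpf_of_kernel hFrob hcomp
  have hMcard : Nat.card M = m := by
    have h1 := hcomp.card_mul
    rw [hW, hUc] at h1
    exact Nat.eq_of_mul_eq_mul_right (show 0 < 5 * K by omega) (by rw [h1]; ring)
  letI : MulAction ↥W ↥M :=
    { smul := fun w x => ⟨(w : ↥U) * x * (w : ↥U)⁻¹, hMn.conj_mem _ x.2 _⟩
      one_smul := fun x => Subtype.ext (show (1 : ↥U) * x * (1 : ↥U)⁻¹ = x by group)
      mul_smul := fun a b x => Subtype.ext (show ((a : ↥U) * b) * x * ((a : ↥U) * b)⁻¹ =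
        (a : ↥U) * ((b : ↥U) * x * (b : ↥U)⁻¹) * (a : ↥U)⁻¹ by group) }
  have hdvd : 5 * K ∣ m - 1 := by
    rw [← hW, ← hMcard]
    refine card_dvd_sub_one (1 : ↥M) (fun w => Subtype.ext (show (w : ↥U) * 1 * (w : ↥U)⁻¹ = 1 by group)) ?_
    intro w x hx hwx
    by_contra hw1
    have h1 := congrArg Subtype.val hwx
    change (w : ↥U) * (x : ↥U) * (w : ↥U)⁻¹ = x at h1
    have h2 : (x : ↥U) ∈ M ⊓ centralizer {(w : ↥U)} :=
      ⟨x.2, mem_centralizer_singleton_iff.2 (mul_inv_eq_iff_eq_mul.1 h1).symm⟩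
    rw [hfpf _ w.2 (fun e => hw1 (Subtype.ext e)), mem_bot] at h2
    exact hx (Subtype.ext h2)
  refine ⟨hdvd, ?_, ?_⟩
  · intro h5
    haveI : Fact (Nat.Prime 5) := ⟨Nat.prime_five⟩
    obtain ⟨k, hk⟩ := exists_prime_orderOf_dvd_card' (G := ↥(centralizer (Y : Set G))) 5 h5
    rw [← Subgroup.orderOf_coe] at hk
    have hfU : f ∈ U := mem_sup_left (mem_zpowers f)
    have hkU : (k : G) ∈ U := mem_sup_right (X.CY_le_B k.2)
    set f₀ : ↥U := ⟨f, hfU⟩
    set k₀ : ↥U := ⟨k, hkU⟩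
    have hcomm : Commute f₀ k₀ := Subtype.ext (X.CY_comm k.2 X.fY).symm.eq
    set E := Subgroup.closure ({f₀, k₀} : Set ↥U)
    have hEW : E ≤ W := (closure_le _).2 (by
      rintro x (rfl | rfl)
      · exact ⟨hfU, le_normalizer X.fY⟩
      · exact ⟨hkU, centralizer_le_normalizer _ k.2⟩)
    haveI : IsMulCommutative ↥E := by
      rw [← le_centralizer_iff_isMulCommutative]
      refine (closure_le _).2 ?_
      rintro x hx
      rw [SetLike.mem_coe, Subgroup.centralizer_closure, mem_centralizer_iff]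
      rintro y hy
      rcases hx with rfl | rfl <;> rcases hy with rfl | rfl
      exacts [rfl, hcomm.eq.symm, hcomm.eq, rfl]
    haveI := hMn
    haveI : Nontrivial ↥M := (Finite.one_lt_card_iff_nontrivial).1 (by rw [hMcard]; exact hm)
    haveI := hMnil
    set V := (center ↥M).map M.subtype
    have hVne : V ≠ ⊥ := fun e => Group.IsNilpotent.center_ne_bot (G := ↥M)
      ((map_eq_bot_iff_of_injective _ (subtype_injective _)).1 e)
    haveI : IsMulCommutative ↥V := by
      rw [← le_centralizer_iff_isMulCommutative]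
      rintro _ ⟨a, ha, rfl⟩
      rw [mem_centralizer_iff]
      rintro _ ⟨b, -, rfl⟩
      exact congrArg Subtype.val (mem_center_iff.1 ha b)
    have hVn : V.Normal := ConjAct.normal_of_characteristic_of_normal
    have hEcyc : IsCyclic ↥E := by
      refine Coprime.fpf_isCyclic_of_abelian (K := V) ?_ ?_ hVne
      · intro x _
        exact Subgroup.normalizer_eq_top_iff.2 hVn ▸ mem_top x
      · intro a ha ha1
        rw [eq_bot_iff, ← hfpf a (hEW ha) ha1]
        exact inf_le_inf_right _ (map_subtype_le _)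
    haveI := Fintype.ofFinite ↥E
    have hle := IsCyclic.card_pow_eq_one_le (α := ↥E) (show 0 < 5 by norm_num)
    set f₁ : ↥E := ⟨f₀, subset_closure (by simp)⟩
    set k₁ : ↥E := ⟨k₀, subset_closure (by simp)⟩
    have hf5 : f₁ ^ 5 = 1 := Subtype.ext (Subtype.ext (show f ^ 5 = 1 by rw [← X.ordf, pow_orderOf_eq_one]))
    have hk5 : k₁ ^ 5 = 1 := Subtype.ext (Subtype.ext (show (k : G) ^ 5 = 1 by rw [← hk, pow_orderOf_eq_one]))
    let ψ : Fin 5 × Fin 5 → ↥E := fun p => f₁ ^ (p.1 : ℕ) * k₁ ^ (p.2 : ℕ)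
    have hψ : Function.Injective ψ := by
      rintro ⟨a, b⟩ ⟨c, d⟩ e
      have e1 : f ^ (a : ℕ) * (k : G) ^ (b : ℕ) = f ^ (c : ℕ) * (k : G) ^ (d : ℕ) :=
        congrArg (fun z : ↥E => ((z : ↥U) : G)) e
      have e2 : (f ^ (c : ℕ))⁻¹ * f ^ (a : ℕ) = (k : G) ^ (d : ℕ) * ((k : G) ^ (b : ℕ))⁻¹ := by
        rw [eq_mul_inv_iff_mul_eq, mul_assoc, e1, inv_mul_cancel_left]
      rw [((Commute.refl f).pow_pow _ _).inv_left.eq] at e2
      obtain rfl : a = c := Fin.ext (X.f_pow_inj a.2 c.2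
        (e2 ▸ centralizer_le X.le (mul_mem (pow_mem k.2 _) (inv_mem (pow_mem k.2 _)))))
      have hmod := pow_eq_pow_iff_modEq.1 (mul_left_cancel e1)
      rw [hk] at hmod
      unfold Nat.ModEq at hmod
      rw [Nat.mod_eq_of_lt b.2, Nat.mod_eq_of_lt d.2] at hmod
      exact Prod.ext rfl (Fin.ext hmod)
    have hsub : (Finset.univ : Finset (Fin 5 × Fin 5)).image ψ ⊆ Finset.univ.filter (fun z : ↥E => z ^ 5 = 1) := by
      intro z hz
      obtain ⟨p, -, rfl⟩ := Finset.mem_image.1 hz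
      have hc1 : Commute f₁ k₁ := Subtype.ext hcomm.eq
      simp only [Finset.mem_filter, Finset.mem_univ, true_and, ψ]
      rw [(hc1.pow_pow _ _).mul_pow, ← pow_mul, ← pow_mul, Nat.mul_comm (p.1 : ℕ) 5, Nat.mul_comm (p.2 : ℕ) 5,
        pow_mul, pow_mul, hf5, hk5, one_pow, one_pow, one_mul]
    have := (Finset.card_le_card hsub).trans hle
    rw [Finset.card_image_of_injective _ hψ] at this
    simp at this
  · intro q q' hq hq' hqm hq'm hne
    haveI := Fact.mk hq
    haveI := Fact.mk hq'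
    obtain ⟨a, ha⟩ := exists_prime_orderOf_dvd_card' (G := ↥M) q (hMcard.symm ▸ hqm)
    obtain ⟨b, hb⟩ := exists_prime_orderOf_dvd_card' (G := ↥M) q' (hMcard.symm ▸ hq'm)
    have hco : (orderOf a).Coprime (orderOf b) := by rw [ha, hb]; exact (Nat.coprime_primes hq hq').2 hne
    have hab := CN.commute_of_coprime_group (hH := hMnil) a b hco
    have hord : orderOf (((a * b : ↥M) : ↥U) : G) = q * q' := by
      rw [Subgroup.orderOf_coe, Subgroup.orderOf_coe, hab.orderOf_mul_eq_mul_orderOf_of_coprime hco, ha, hb]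
    refine ⟨((a * b : ↥M) : ↥U), (mem_stabA.1 (X.frobU_le ((a * b : ↥M) : ↥U).2)).2, hord, ?_⟩
    have hUodd : Odd (Nat.card ↥U) := by
      rw [hUc, ← X.card_B h]
      exact (show Odd 5 from ⟨2, rfl⟩).mul ((X.odd_CA h).of_dvd_nat (card_dvd_of_le inf_le_right))
    exact hUodd.of_dvd_nat (Subgroup.orderOf_dvd_natCard _ ((a * b : ↥M) : ↥U).2)

end Axis

end Cfsg.Agent.ElevenPairs.JCase
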