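import Cfsg.Agent.Lib.ElevenPairs.JCase.Axis
import Cfsg.Agent.Lib.Involutions.StronglyEmbedded

/-!
# The case of a single pair through a member: a strongly embedded normaliser
-/

set_option autoImplicit false
set_option linter.unusedSectionVars false
set_option linter.style.haveILetI false

namespace Cfsg.Agent.ElevenPairs.JCase

open Subgroup

universe u

variable {G : Type u} [Group G] [Finite G] {P : Subgroup G}

theorem conj_bijective {Y : Subgroup G} (hY : JPair P Y) :
    Function.Bijective (MulAut.conj : ↥Y →* MulAut ↥Y) := by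
  refine ⟨(injective_iff_map_eq_one _).2 fun y hy => Subtype.ext ?_, fun α => hY.isJ.aut_inner α⟩
  refine hY.eq_one_of_centralizes y.2 (mem_centralizer_iff.2 fun x hx => ?_)
  have h1 := congrArg (fun a : MulAut ↥Y => ((a ⟨x, hx⟩ : ↥Y) : G)) hy
  simp only [MulAut.conj_apply, MulAut.one_apply, Subgroup.coe_mul, Subgroup.coe_inv] at h1
  exact (mul_inv_eq_iff_eq_mul.1 h1).symm

namespace Axis

variable {Y A A' : Subgroup G} {t f v : G}

/-- There is more than one pair through `A`. -/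
theorem mOf_ne_one (X : Axis P Y A t f v A') (h : Core P) : mOf Y A t ≠ 1 := by
  intro hm
  have hsub : stabA A t ≤ stabY Y A t := relIndex_eq_one.1 hm
  have hA : A ∈ Phi P t := ⟨X.toFrame.member h.toSetting, X.toFrame.normA⟩
  have hphi : ∀ Q ∈ Phi P t, Q ≤ Y := by
    intro Q hQ
    by_cases hne : A = Q
    · exact hne ▸ X.le
    obtain ⟨-, b, hbt, hbA, hb⟩ := X.toFrame.all_pairs h hQ.1 hne hQ.2
    rw [map_conj_eq_self (mem_stabY.1 (hsub (mem_stabA.2 ⟨hbA, hbt⟩))).2] at hb
    exact hb ▸ le_sup_right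
  have hconj : ∀ x z : G, x ∈ Y → z ∈ Y → orderOf x = 2 → orderOf z = 2 → ∃ y ∈ Y, y * x * y⁻¹ = z := by
    intro x z hxY hzY hx hz
    obtain ⟨y, hy⟩ := isConj_iff.1 (X.pair.isJ.isConj (s := (⟨x, hxY⟩ : ↥Y)) (t := ⟨z, hzY⟩)
      (by rw [orderOf_mk]; exact hx) (by rw [orderOf_mk]; exact hz))
    exact ⟨y, y.2, congrArg Subtype.val hy⟩
  have hfix : ∀ B z, Frame P Y B z → ∀ Q, Member P Q → z ∈ normalizer (Q : Set G) → Q ≤ Y := by
    intro B z F' Q hQ hzQ
    obtain ⟨y, hy, hyz⟩ := hconj t z X.tY (F'.t_mem h) X.ord F'.ord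
    have h1 : Q.map (MulAut.conj y⁻¹).toMonoidHom ∈ Phi P t := ⟨hQ.conj _, mem_normalizer_map_iff.2 (by
      rw [inv_inv, hyz]; exact hzQ)⟩
    have h2 := Subgroup.map_mono (f := (MulAut.conj y).toMonoidHom) (hphi _ h1)
    rwa [← map_conj_mul, mul_inv_cancel, map_conj_one, map_conj_eq_self (le_normalizer hy)] at h2
  set N := normalizer (Y : Set G)
  have hC : ∀ z g : G, orderOf z = 2 → z ∈ N → Commute g z → g ∈ N :=
    fun z g hz hzY hgz => centralizer_le_normalizer_involution h X.pair hfix hz hzY hgz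
  have hinY : ∀ z ∈ N, orderOf z = 2 → z ∈ Y := by
    intro z hz hz2
    obtain ⟨y, hy, hk⟩ := X.pair.decompose hz
    have hzz : z * z = 1 := Involutions.Basic.inv_sq_one hz2
    set k := y⁻¹ * z with hkdef
    have hzy : z = y * k := by simp [hkdef]
    have hkk : k * k = (y * y)⁻¹ := by
      rw [eq_inv_iff_mul_eq_one]
      calc k * k * (y * y) = k * (k * y) * y := by group
        _ = k * (y * k) * y := by rw [(X.CY_comm hk hy).eq]
        _ = k * y * (k * y) := by group
        _ = 1 := by rw [(X.CY_comm hk hy).eq, ← hzy, hzz]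
    have hkk1 := X.pair.eq_one_of_centralizes (hkk ▸ inv_mem (mul_mem hy hy) : k * k ∈ Y) (mul_mem hk hk)
    have hk1 : k = 1 := orderOf_eq_one_iff.1 (Nat.eq_one_of_dvd_coprimes (Nat.coprime_two_left.2 (X.odd_CY h))
      (orderOf_dvd_of_pow_eq_one (by rw [sq, hkk1])) (Subgroup.orderOf_dvd_natCard _ hk))
    rw [hzy, hk1, mul_one]
    exact hy
  haveI := h.simple
  have hNtop : N ≠ ⊤ := by
    intro e
    rcases Subgroup.Normal.eq_bot_or_eq_top (Subgroup.normalizer_eq_top_iff.1 e) with e1 | e1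
    · have := X.pair.card
      rw [e1, card_bot] at this
      omega
    · exact X.pair.ne_top h e1
  have hSE : Cfsg.IsStronglyEmbedded N := by
    refine Involutions.StronglyEmbedded.of_conj hNtop ?_ ?_
    · rw [even_iff_two_dvd, ← X.ord]
      exact Subgroup.orderOf_dvd_natCard N X.normY
    · intro z hz hz2 g hg
      have hg2 : orderOf (g * z * g⁻¹) = 2 := by rw [Involutions.Basic.orderOf_conj, hz2]
      obtain ⟨y, hy, hyz⟩ := hconj z (g * z * g⁻¹) (hinY z hz hz2) (hinY _ hg hg2) hz2 hg2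
      have hc : Commute (y⁻¹ * g) z := by
        show y⁻¹ * g * z = z * (y⁻¹ * g)
        calc y⁻¹ * g * z = y⁻¹ * (g * z * g⁻¹) * g := by group
          _ = z * (y⁻¹ * g) := by rw [← hyz]; group
      have := mul_mem (le_normalizer hy) (hC z _ hz2 hz hc)
      rwa [mul_inv_cancel_left] at this
  obtain ⟨u, huN, hu⟩ := Involutions.StronglyEmbedded.exists_involution_notMem hSE
  set D := N ⊓ N.map (MulAut.conj u).toMonoidHom with hD
  have hDodd : Odd (Nat.card D) := hSE.2.2 u huN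
  let φ : ↥D →* MulAut ↥Y :=
    { toFun := fun d => subAut (Y := Y) (g := (d : G)) d.2.1
      map_one' := MulEquiv.ext fun x => Subtype.ext (show (1 : G) * (x : G) * (1 : G)⁻¹ = x by group)
      map_mul' := fun a b => MulEquiv.ext fun x => Subtype.ext (show (a : G) * b * (x : G) * ((a : G) * b)⁻¹ =
        (a : G) * ((b : G) * (x : G) * (b : G)⁻¹) * (a : G)⁻¹ by group) }
  set D' : Subgroup ↥Y := φ.range.comap (MulAut.conj : ↥Y →* MulAut ↥Y)
  have hcardD' : Nat.card D' ∣ Nat.card D := by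
    have h1 : Nat.card D' = Nat.card φ.range := by
      rw [Nat.card_congr (D'.equivMapOfInjective (MulAut.conj : ↥Y →* MulAut ↥Y) (conj_bijective X.pair).1).toEquiv,
        Subgroup.map_comap_eq_self_of_surjective (conj_bijective X.pair).2]
    rw [h1]
    exact card_range_dvd φ
  set t₀ : ↥Y := ⟨t, X.tY⟩
  have ht₀ : orderOf t₀ = 2 := by rw [orderOf_mk]; exact X.ord
  set C₀ := centralizer ({t₀} : Set ↥Y)
  have hC₀ : C₀.index = 1463 := by
    have h1 := C₀.card_mul_index
    rw [X.pair.isJ.card_centralizer ht₀, X.pair.card] at h1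
    omega
  have htrans : ∀ g : ↥Y, ∃ y ∈ D', y⁻¹ * g ∈ C₀ := by
    intro g
    set z := (g : G) * t * (g : G)⁻¹
    have hzY : z ∈ Y := mul_mem (mul_mem g.2 X.tY) (inv_mem g.2)
    obtain ⟨d, hd, hdz⟩ := Involutions.StronglyEmbedded.exists_conj_in_inter hSE hu huN X.ord X.normY
      (t := z) (by rw [Involutions.Basic.orderOf_conj, X.ord]) (le_normalizer hzY)
    obtain ⟨y, hy⟩ := (conj_bijective X.pair).2 (φ ⟨d, hd⟩)
    refine ⟨y, ⟨⟨d, hd⟩, hy.symm⟩, mem_centralizer_singleton_iff.2 ?_⟩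
    have h1 := congrArg (fun a : MulAut ↥Y => ((a t₀ : ↥Y) : G)) hy
    have h2 : (y : G) * t * (y : G)⁻¹ = z := h1.trans hdz
    refine Subtype.ext ?_
    show (y : G)⁻¹ * g * t = t * ((y : G)⁻¹ * g)
    calc (y : G)⁻¹ * g * t = (y : G)⁻¹ * z * g := by simp [z, mul_assoc]
      _ = t * ((y : G)⁻¹ * g) := by rw [← h2]; group
  have hidx : (C₀.subgroupOf D').index = C₀.index := by
    rw [Subgroup.index, Subgroup.index]
    refine Nat.card_congr (Equiv.ofBijective (Quotient.lift (s := QuotientGroup.leftRel (C₀.subgroupOf D'))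
      (fun y : ↥D' => (QuotientGroup.mk (y : ↥Y) : ↥Y ⧸ C₀))
      (fun a b hab => QuotientGroup.eq.2 (by have := QuotientGroup.leftRel_apply.1 hab; exact this))) ⟨?_, ?_⟩)
    · intro x y hxy
      obtain ⟨a, rfl⟩ := Quotient.exists_rep x
      obtain ⟨b, rfl⟩ := Quotient.exists_rep y
      refine Quotient.sound (QuotientGroup.leftRel_apply.2 ?_)
      have h1 : (QuotientGroup.mk (a : ↥Y) : ↥Y ⧸ C₀) = QuotientGroup.mk (b : ↥Y) := hxy
      show (a : ↥Y)⁻¹ * (b : ↥Y) ∈ C₀
      exact QuotientGroup.eq.1 h1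
    · intro q
      induction q using QuotientGroup.induction_on with
      | _ g =>
        obtain ⟨y, hy, hyg⟩ := htrans g
        exact ⟨Quotient.mk _ ⟨y, hy⟩, QuotientGroup.eq.2 hyg⟩
  exact X.pair.isJ.not_odd_1463 D' (hDodd.of_dvd_nat hcardD')
    (hC₀ ▸ hidx ▸ Subgroup.index_dvd_card _)

end Axis

end Cfsg.Agent.ElevenPairs.JCase
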