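import Cfsg.Agent.Lib.ElevenPairs.JCase.Block
import Cfsg.Agent.Lib.ElevenPairs.JCase.One
import Cfsg.Agent.Lib.ElevenPairs.JCase.Frob
import Cfsg.Agent.Lib.ElevenPairs.JCase.Chars

/-!
# No pair is of the first Janko type
-/

set_option autoImplicit false
set_option linter.unusedSectionVars false
set_option linter.style.haveILetI false

namespace Cfsg.Agent.ElevenPairs

open Subgroup JCase

universe u

variable {G : Type u} [Group G] [Finite G] {P : Subgroup G}

namespace JCase.Axis

variable {Y A A' : Subgroup G} {t f v : G}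

theorem fpow_notMem (X : Axis P Y A t f v A') {i : ℕ} (h : f ^ i ∈ zpowers t) : f ^ i = 1 := by
  refine ((mem_zpowers_two X.ord).1 h).resolve_right fun e => ?_
  have h2 : orderOf (f ^ i) ∣ 5 := X.ordf ▸ orderOf_pow_dvd i
  rw [e, X.ord] at h2
  omega

/-- An element of `C(t)` normalising `<f>` inverts or centralises it. -/
theorem normal_five (X : Axis P Y A t f v A') (h : Core P) {c : G} (hct : Commute c t)
    (hc : c * f * c⁻¹ ∈ zpowers f) :
    (c ∈ stabY Y A t ∧ c * f * c⁻¹ = f) ∨ c * f * c⁻¹ = f⁻¹ := by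
  haveI : Fact (Nat.Prime 5) := ⟨Nat.prime_five⟩
  have hzp : zpowers (c * f * c⁻¹) = zpowers f := by
    refine eq_of_le_of_card_ge (zpowers_le.2 hc) ?_
    rw [Nat.card_zpowers, Nat.card_zpowers, Involutions.Basic.orderOf_conj]
  obtain ⟨j, hj⟩ := mem_zpowers_iff.1 (hzp ▸ mem_zpowers f : f ∈ zpowers (c * f * c⁻¹))
  have hc' : c⁻¹ * f * c ∈ normalizer (A : Set G) := by
    have e : c⁻¹ * f * c = f ^ j := by
      calc c⁻¹ * f * c = c⁻¹ * (c * f * c⁻¹) ^ j * c := by rw [hj]
        _ = f ^ j := by rw [conj_zpow]; group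
    rw [e]
    exact zpow_mem X.fA j
  have hA : A ∈ Phi P t := ⟨X.toFrame.member h.toSetting, X.toFrame.normA⟩
  have hcA : A.map (MulAut.conj c).toMonoidHom ∈ Phi P t := smul_mem_Phi hct hA
  have hfcA : f ∈ normalizer ((A.map (MulAut.conj c).toMonoidHom : Subgroup G) : Set G) :=
    mem_normalizer_map_iff.2 hc'
  have huniq : ∀ R : Subgroup G, R ∈ Phi P t → f ∈ normalizer (R : Set G) → R = A ∨ R = A' := by
    intro R hR hfR
    by_cases hRA : A = R
    · exact Or.inl hRA.symm
    · exact Or.inr (X.toFrame.fixed_unique h.toSetting X.fA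
        (by rw [← X.ordf, pow_orderOf_eq_one]; exact one_mem _) X.fnc hR.1 (X.memberA' h) hRA (Ne.symm X.neA')
        hR.2 X.tA' hfR X.fA')
  have hA'fix : ∀ d : G, Commute d t → d ∈ normalizer (A : Set G) → d * f * d⁻¹ ∈ zpowers f → d ∈ stabY Y A t := by
    intro d hdt hdA hdf
    have hzp' : zpowers (d * f * d⁻¹) = zpowers f := by
      refine eq_of_le_of_card_ge (zpowers_le.2 hdf) ?_
      rw [Nat.card_zpowers, Nat.card_zpowers, Involutions.Basic.orderOf_conj]
    obtain ⟨j', hj'⟩ := mem_zpowers_iff.1 (hzp' ▸ mem_zpowers f : f ∈ zpowers (d * f * d⁻¹))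
    have hmem : f ∈ normalizer ((A'.map (MulAut.conj d).toMonoidHom : Subgroup G) : Set G) := by
      rw [mem_normalizer_map_iff]
      have e : d⁻¹ * f * d = f ^ j' := by
        calc d⁻¹ * f * d = d⁻¹ * (d * f * d⁻¹) ^ j' * d := by rw [hj']
          _ = f ^ j' := by rw [conj_zpow]; group
      rw [e]
      exact zpow_mem X.fA' j'
    rcases huniq _ (smul_mem_Phi hdt ⟨X.memberA' h, X.tA'⟩) hmem with e | e
    · exact absurd (Subgroup.map_injective (MulEquiv.injective _) (e.trans (map_conj_eq_self hdA).symm)) X.neA'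
    · refine mem_stabY.2 ⟨⟨hdA, hdt⟩, ?_⟩
      rw [← X.gen' h]
      exact mem_normalizer_sup hdA (mem_normalizer_of_map e)
  rcases huniq _ hcA hfcA with e | e
  · have hS := hA'fix c hct (mem_normalizer_of_map e) hc
    exact Or.inl ⟨hS, by rw [(X.stabY_comm_f hS).eq, mul_inv_cancel_right]⟩
  · have hvi : v⁻¹ = v := inv_eq_of_mul_eq_one_right X.vsq
    have hd : v * c ∈ normalizer (A : Set G) := by
      refine mem_normalizer_of_map ?_
      rw [map_conj_mul, e, ← X.vA, ← map_conj_mul, X.vsq, map_conj_one]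
    have hdf : v * c * f * (v * c)⁻¹ ∈ zpowers f := by
      obtain ⟨i, hi⟩ := mem_zpowers_iff.1 hc
      have e : v * c * f * (v * c)⁻¹ = (v * f * v⁻¹) ^ i := by rw [conj_zpow, hi]; group
      rw [e, X.vf]
      exact zpow_mem (inv_mem (mem_zpowers f)) i
    have hS := hA'fix (v * c) (X.vt.mul_left hct) hd hdf
    right
    have h1 := (X.stabY_comm_f hS).eq
    calc c * f * c⁻¹ = v⁻¹ * (v * c * f) * c⁻¹ := by group
      _ = v⁻¹ * f * v := by rw [h1]; group
      _ = f⁻¹ := by rw [hvi]; nth_rewrite 2 [← hvi]; exact X.vf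

/-- The quotient of `C(t)` by `<t>` has contradictory properties. -/
theorem false_of_axis (X : Axis P Y A t f v A') (h : Core P) : False := by
  classical
  set C := centralizer ({t} : Set G)
  set m := mOf Y A t
  set K := Nat.card ↥(centralizer (Y : Set G)) with hKdef
  have hK : 0 < K := Nat.card_pos
  have hm0 : m ≠ 0 := by
    show (stabY Y A t).relIndex (stabA A t) ≠ 0
    rw [relIndex]
    exact Subgroup.index_ne_zero_of_finite
  have hm : 1 < m := by
    have := X.mOf_ne_one h
    omega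
  obtain ⟨hdvd, h5K, hmix⟩ := X.frobenius h hm
  obtain ⟨h12, hcent⟩ := X.card_modCentralizer h
  set t' : ↥C := ⟨t, mem_centralizer_singleton_iff.2 rfl⟩
  set T : Subgroup ↥C := zpowers t'
  haveI hTn : T.Normal := ⟨fun a ha g => by
    obtain ⟨i, rfl⟩ := mem_zpowers_iff.1 ha
    have hc : Commute g t' := Subtype.ext (mem_centralizer_singleton_iff.1 g.2)
    rw [(hc.zpow_right i).eq, mul_inv_cancel_right]
    exact zpow_mem (mem_zpowers t') i⟩
  let π : ↥C →* ↥C ⧸ T := QuotientGroup.mk' T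
  have hT : ∀ c : ↥C, c ∈ T ↔ (c : G) ∈ zpowers t := by
    intro c
    rw [mem_zpowers_iff, mem_zpowers_iff]
    exact ⟨fun ⟨i, hi⟩ => ⟨i, congrArg Subtype.val hi⟩, fun ⟨i, hi⟩ => ⟨i, Subtype.ext hi⟩⟩
  have hπeq : ∀ a b : ↥C, π a = π b ↔ (a : G)⁻¹ * b ∈ zpowers t := fun a b => by
    rw [QuotientGroup.mk'_apply, QuotientGroup.mk'_apply, QuotientGroup.eq, hT]
    rfl
  have hπone : ∀ a : ↥C, π a = 1 ↔ (a : G) ∈ zpowers t := fun a => by
    rw [QuotientGroup.mk'_apply, QuotientGroup.eq_one_iff, hT]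
  have hTcard : Nat.card T = 2 := by rw [Nat.card_zpowers, ← Subgroup.orderOf_coe]; exact X.ord
  have hH : 2 * Nat.card (↥C ⧸ T) = Nat.card C := by
    rw [← hTcard, ← Subgroup.index_eq_card, T.card_mul_index]
  have hCcard : Nat.card C = (11 * m + 1) * (10 * (m * K)) := by
    rw [X.card_centralizer h, X.card_Phi h, X.card_stabA_eq h]
  have hcomap : ∀ L : Subgroup (↥C ⧸ T), Nat.card (L.comap π) = 2 * Nat.card L := by
    intro L
    have h1 := (L.comap π).card_mul_index
    rw [index_comap_of_surjective L (QuotientGroup.mk'_surjective T), ← hH, ← L.card_mul_index] at h1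
    exact Nat.eq_of_mul_eq_mul_right (Nat.pos_of_ne_zero Subgroup.index_ne_zero_of_finite)
      (by rw [h1]; ring)
  set f₀ : ↥C := ⟨f, mem_centralizer_singleton_iff.2 X.ft.eq⟩
  set v₀ : ↥C := ⟨v, mem_centralizer_singleton_iff.2 X.vt.eq⟩
  have hfπ : orderOf (π f₀) = 5 := by
    haveI : Fact (Nat.Prime 5) := ⟨Nat.prime_five⟩
    refine orderOf_eq_prime ?_ fun e => ?_
    · rw [← map_pow, show f₀ ^ 5 = 1 from Subtype.ext (show f ^ 5 = 1 by rw [← X.ordf, pow_orderOf_eq_one]),
        map_one]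
    · rw [hπone] at e
      have h1 := X.fpow_notMem (i := 1) (by rwa [pow_one])
      rw [pow_one] at h1
      have := X.ordf
      rw [h1, orderOf_one] at this
      omega
  -- lifting a conjugation of `f` from the quotient
  have hlift : ∀ (c : ↥C) (i : ℕ), π c * π f₀ * (π c)⁻¹ = π f₀ ^ i → (c : G) * f * (c : G)⁻¹ = f ^ i := by
    intro c i e
    rw [← map_inv, ← map_mul, ← map_mul, ← map_pow, hπeq] at e
    simp only [Subgroup.coe_mul, Subgroup.coe_inv, SubgroupClass.coe_pow] at e
    change ((c : G) * f * (c : G)⁻¹)⁻¹ * f ^ i ∈ zpowers t at e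
    rcases (mem_zpowers_two X.ord).1 e with r | r
    · exact inv_mul_eq_one.1 r
    · exfalso
      rw [inv_mul_eq_iff_eq_mul] at r
      have hct : Commute ((c : G) * f * (c : G)⁻¹) t :=
        ((show Commute (c : G) t from mem_centralizer_singleton_iff.1 c.2).mul_left X.ft).mul_left
          (show Commute (c : G) t from mem_centralizer_singleton_iff.1 c.2).inv_left
      have hto : orderOf ((c : G) * f * (c : G)⁻¹ * t) = 10 := by
        rw [hct.orderOf_mul_eq_mul_orderOf_of_coprime
          (by rw [Involutions.Basic.orderOf_conj, X.ordf, X.ord]; norm_num), Involutions.Basic.orderOf_conj,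
          X.ordf, X.ord]
      rw [← r] at hto
      have := X.ordf ▸ (orderOf_pow_dvd i : orderOf (f ^ i) ∣ orderOf f)
      rw [hto] at this
      omega
  have hπf : ∀ c : ↥C, π c ∈ centralizer ({π f₀} : Set (↥C ⧸ T)) ↔ c ∈ (stabY Y A t).subgroupOf C := by
    intro c
    rw [mem_centralizer_singleton_iff, mem_subgroupOf]
    constructor
    · intro e
      have h1 := hlift c 1 (by rw [e, mul_inv_cancel_right, pow_one])
      rw [pow_one] at h1
      rcases X.normal_five h (show Commute (c : G) t from mem_centralizer_singleton_iff.1 c.2)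
        (h1.symm ▸ mem_zpowers f) with r | r
      · exact r.1
      · exfalso
        rw [h1, eq_inv_iff_mul_eq_one, ← sq] at r
        have := orderOf_dvd_of_pow_eq_one r
        rw [X.ordf] at this
        omega
    · intro e
      rw [← map_mul, ← map_mul]
      exact congrArg π (Subtype.ext (X.stabY_comm_f e).eq)
  set Kc := ((centralizer (Y : Set G)).subgroupOf C).map π
  have hKc : ∀ q ∈ Kc, ∃ k : ↥C, (k : G) ∈ centralizer (Y : Set G) ∧ π k = q := by
    rintro _ ⟨k, hk, rfl⟩
    exact ⟨k, hk, rfl⟩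
  have hCYC : centralizer (Y : Set G) ≤ C := fun k hk => mem_centralizer_singleton_iff.2 (X.CY_comm hk X.tY).eq
  refine CharData.false (m := m) (K := K) (f := π f₀) (v := π v₀) (Kc := Kc)
    { one_lt := hm
      card := ?_
      odd := X.odd_CY h
      dvd := hdvd
      not_five := h5K
      twelve := h12
      ordf := hfπ
      cardKc := ?_
      cardC := ?_
      commKf := ?_
      normf := ?_
      sqv := ?_
      invf := ?_
      commKv := ?_
      oneClass := ?_
      cardCv := ?_
      mixed := ?_ }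
  · rw [hCcard] at hH
    have e : 5 * (11 * m + 1) * m * K * 2 = (11 * m + 1) * (10 * (m * K)) := by ring
    omega
  · rw [hKdef, ← Nat.card_congr (subgroupOfEquivOfLe hCYC).toEquiv]
    refine (Nat.card_congr (Equiv.ofBijective (fun k : ↥((centralizer (Y : Set G)).subgroupOf C) =>
      (⟨π k.1, mem_map_of_mem _ k.2⟩ : ↥Kc)) ⟨?_, ?_⟩)).symm
    · intro a b e
      have h1 := (hπeq _ _).1 (congrArg Subtype.val e)
      have h2 : ((a.1 : G)⁻¹ * b.1) = 1 := by
        refine X.pair.eq_one_of_centralizes ((zpowers_le.2 X.tY) h1) ?_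
        exact mul_mem (inv_mem a.2) b.2
      exact Subtype.ext (Subtype.ext (inv_mul_eq_one.1 h2))
    · rintro ⟨_, k, hk, rfl⟩
      exact ⟨⟨k, hk⟩, rfl⟩
  · have h1 := hcomap (centralizer ({π f₀} : Set (↥C ⧸ T)))
    rw [show (centralizer ({π f₀} : Set (↥C ⧸ T))).comap π = (stabY Y A t).subgroupOf C from
      Subgroup.ext hπf, Nat.card_congr (subgroupOfEquivOfLe (show stabY Y A t ≤ C from fun z hz =>
        mem_centralizer_singleton_iff.2 (mem_stabY.1 hz).1.2.eq)).toEquiv, X.card_stabY h] at h1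
    omega
  · intro q hq
    obtain ⟨k, hk, rfl⟩ := hKc q hq
    exact (show Commute k f₀ from Subtype.ext (X.CY_comm hk X.fY).eq).map π
  · intro q hq
    obtain ⟨c, rfl⟩ := QuotientGroup.mk'_surjective T q
    obtain ⟨i, hi⟩ := mem_powers_iff_mem_zpowers.2 hq
    have h1 := hlift c i (by exact hi.symm)
    rcases X.normal_five h (show Commute (c : G) t from mem_centralizer_singleton_iff.1 c.2)
      (h1 ▸ pow_mem (mem_zpowers f) i) with r | r
    · left
      rw [← map_inv, ← map_mul, ← map_mul]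
      exact congrArg π (Subtype.ext r.2)
    · right
      rw [← map_inv, ← map_mul, ← map_mul, ← map_inv]
      exact congrArg π (Subtype.ext r)
  · rw [← map_mul, ← map_one π]
    exact congrArg π (Subtype.ext X.vsq)
  · rw [← map_inv, ← map_mul, ← map_mul, ← map_inv]
    exact congrArg π (Subtype.ext X.vf)
  · intro q hq
    obtain ⟨k, hk, rfl⟩ := hKc q hq
    exact (show Commute v₀ k from Subtype.ext (X.CY_comm hk X.vY).symm.eq).map π
  · have key : ∀ q : ↥C ⧸ T, orderOf q = 2 → IsConj q (π v₀) := by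
      intro q hq
      obtain ⟨c, rfl⟩ := QuotientGroup.mk'_surjective T q
      have hc2 : (c : G) * c ∈ zpowers t := by
        rw [← Subgroup.coe_mul, ← hπone, map_mul, ← sq, ← hq, pow_orderOf_eq_one]
      have hcn : (c : G) ∉ zpowers t := fun e => by
        have e2 : π c = 1 := (hπone c).2 e
        change orderOf (π c) = 2 at hq
        rw [e2, orderOf_one] at hq
        omega
      obtain ⟨d, hdt, hd⟩ := X.invol_conj h (show Commute (c : G) t from mem_centralizer_singleton_iff.1 c.2) hc2 hcn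
      refine isConj_iff.2 ⟨π ⟨d, mem_centralizer_singleton_iff.2 hdt.eq⟩, ?_⟩
      rw [← map_inv, ← map_mul, ← map_mul, hπeq]
      simp only [Subgroup.coe_mul, Subgroup.coe_inv]
      rcases hd with r | r
      · rw [r, inv_mul_cancel]; exact one_mem _
      · rw [r, mul_inv_rev, mul_assoc, inv_mul_cancel, mul_one]; exact inv_mem (mem_zpowers t)
    intro x y hx hy
    exact (key x hx).trans (key y hy).symm
  · have hπv : ∀ c : ↥C, π c ∈ centralizer ({π v₀} : Set (↥C ⧸ T)) ↔
        c ∈ (modCentralizer t v X.tt X.vt).subgroupOf C := by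
      intro c
      have hct : Commute (c : G) t := mem_centralizer_singleton_iff.1 c.2
      rw [mem_centralizer_singleton_iff, mem_subgroupOf, ← mul_inv_eq_iff_eq_mul, ← map_inv, ← map_mul, ← map_mul,
        hπeq]
      simp only [Subgroup.coe_mul, Subgroup.coe_inv]
      change ((c : G) * v * (c : G)⁻¹)⁻¹ * v ∈ zpowers t ↔ _
      rw [mem_zpowers_two X.ord, inv_mul_eq_one]
      constructor
      · rintro (r | r)
        · exact ⟨hct, Or.inl r⟩
        · refine ⟨hct, Or.inr ?_⟩
          rw [inv_mul_eq_iff_eq_mul] at r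
          conv_rhs => rw [r]
          rw [mul_assoc ((c : G) * v * (c : G)⁻¹), X.tt, mul_one]
      · rintro ⟨-, r | r⟩
        · exact Or.inl r
        · refine Or.inr ?_
          rw [r, mul_inv_rev, mul_assoc, inv_mul_cancel, mul_one, X.toFrame.inv_self]
    have h1 := hcomap (centralizer ({π v₀} : Set (↥C ⧸ T)))
    rw [show (centralizer ({π v₀} : Set (↥C ⧸ T))).comap π = (modCentralizer t v X.tt X.vt).subgroupOf C from
      Subgroup.ext hπv, Nat.card_congr (subgroupOfEquivOfLe (show modCentralizer t v X.tt X.vt ≤ C from fun z hz =>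
        mem_centralizer_singleton_iff.2 hz.1.eq)).toEquiv] at h1
    rw [h1] at hcent
    show 3 * _ = (11 * mOf Y A t + 1) * Nat.card ↥(centralizer (Y : Set G))
    omega
  · intro q q' hq hq' hqm hq'm hne
    obtain ⟨x, hxt, hx, hodd⟩ := hmix q q' hq hq' hqm hq'm hne
    refine ⟨π ⟨x, mem_centralizer_singleton_iff.2 hxt.eq⟩, ?_⟩
    rw [← hx]
    set w : ↥C := ⟨x, mem_centralizer_singleton_iff.2 hxt.eq⟩
    have hpow : x ^ orderOf (π w) ∈ zpowers t := by
      have e : π (w ^ orderOf (π w)) = 1 := by rw [map_pow, pow_orderOf_eq_one]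
      exact (hπone _).1 e
    refine orderOf_dvd_of_pow_eq_one ((mem_zpowers_two X.ord).1 hpow |>.resolve_right fun e => ?_)
    have h2 : orderOf (x ^ orderOf (π w)) ∣ orderOf x := orderOf_pow_dvd _
    rw [e, X.ord] at h2
    obtain ⟨r, hr⟩ := hodd
    omega

end JCase.Axis

/-- No pair is isomorphic to the first Janko group. -/
theorem Core.false_of_J (h : Core P) (Q R : Mem P) (hne : Q ≠ R) (hJ : IsJ ↥(Q.1 ⊔ R.1)) : False := by
  have hQR : Q.1 ≠ R.1 := fun e => hne (Subtype.ext e)
  have hY : JPair P (Q.1 ⊔ R.1) := ⟨hJ, Q.1, R.1, Q.2, R.2, hQR, rfl⟩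
  have hle : Q.1 ≤ Q.1 ⊔ R.1 := le_sup_left
  have hQ : Nat.card Q.1 = 11 := member_card h.toSetting Q.2
  haveI : Fact (Nat.Prime 2) := ⟨Nat.prime_two⟩
  obtain ⟨s, hs⟩ := exists_prime_orderOf_dvd_card'
    (G := ↥(normalizer ((Q.1.subgroupOf (Q.1 ⊔ R.1) : Subgroup _) : Set ↥(Q.1 ⊔ R.1)))) 2
    (by rw [hJ.card_normalizer (by rw [card_subgroupOf hle, hQ])]; norm_num)
  rw [← Subgroup.orderOf_coe, ← Subgroup.orderOf_coe] at hs
  have hsQ := (JPair.mem_normalizer_subgroupOf hle s.1.2).1 s.2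
  have F : Frame P (Q.1 ⊔ R.1) Q.1 ((s.1 : ↥(Q.1 ⊔ R.1)) : G) :=
    ⟨hY, hle, hQ, hs, le_normalizer s.1.2, hY.inverts hle hQ s.1.2 hs hsQ⟩
  obtain ⟨f, v, A', X⟩ := F.exists_axis h
  exact X.false_of_axis h

end Cfsg.Agent.ElevenPairs
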