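import Cfsg.Agent.Lib.ElevenPairs.JCase.Frame
import Cfsg.Agent.Lib.Involutions.Basic

/-!
# The centraliser of a member has odd order
-/

set_option autoImplicit false
set_option linter.unusedSectionVars false
set_option linter.style.haveILetI false

namespace Cfsg.Agent.ElevenPairs.JCase

open Subgroup

universe u

variable {G : Type u} [Group G] [Finite G] {P : Subgroup G}

theorem even_centralizer_conj {A B : Subgroup G} (hA : Member P A) (hB : Member P B)
    (heven : Even (Nat.card ↥(centralizer (A : Set G)))) : Even (Nat.card ↥(centralizer (B : Set G))) := by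
  obtain ⟨g, rfl⟩ := hA.symm.trans hB
  rw [Subgroup.coe_map, show ((MulAut.conj g).toMonoidHom : G → G) = MulAut.conj g from rfl]
  have he : centralizer (MulAut.conj g '' (A : Set G)) =
      (centralizer (A : Set G)).map (MulAut.conj g).toMonoidHom := by
    ext x
    rw [Subgroup.mem_map_equiv, mem_centralizer_iff, mem_centralizer_iff]
    simp only [Set.forall_mem_image, MulAut.conj_apply, MulAut.conj_symm_apply]
    refine forall₂_congr fun y _ => ?_
    constructor <;> intro hh
    · calc y * (g⁻¹ * x * g) = g⁻¹ * (g * y * g⁻¹ * x) * g := by group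
        _ = g⁻¹ * x * g * y := by rw [hh]; group
    · calc g * y * g⁻¹ * x = g * (y * (g⁻¹ * x * g)) * g⁻¹ := by group
        _ = x * (g * y * g⁻¹) := by rw [hh]; group
  rwa [he, Subgroup.card_map_of_injective (MulEquiv.injective _)]

namespace Frame

variable {Y A : Subgroup G} {t : G}

/-- A frame moved by conjugation. -/
theorem map (F : Frame P Y A t) (g : G) :
    Frame P (Y.map (MulAut.conj g).toMonoidHom) (A.map (MulAut.conj g).toMonoidHom) (g * t * g⁻¹) where
  pair := F.pair.conj g
  le := Subgroup.map_mono F.le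
  cardA := by rw [Subgroup.card_map_of_injective (MulEquiv.injective _), F.cardA]
  ord := by rw [Involutions.Basic.orderOf_conj, F.ord]
  normY := by
    rw [mem_normalizer_map_iff, show g⁻¹ * (g * t * g⁻¹) * g = t by group]
    exact F.normY
  inv := by
    rintro _ ⟨x, hx, rfl⟩
    show g * t * g⁻¹ * (g * x * g⁻¹) * (g * t * g⁻¹)⁻¹ = (g * x * g⁻¹)⁻¹
    calc g * t * g⁻¹ * (g * x * g⁻¹) * (g * t * g⁻¹)⁻¹ = g * (t * x * t⁻¹) * g⁻¹ := by group
      _ = (g * x * g⁻¹)⁻¹ := by rw [F.inv x hx]; group

/-- An involution commuting with `t` and centralising `A`, when `C(A)` has even order. -/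
theorem exists_involution (F : Frame P Y A t) (heven : Even (Nat.card ↥(centralizer (A : Set G)))) :
    ∃ s : G, orderOf s = 2 ∧ Commute s t ∧ s ∈ centralizer (A : Set G) := by
  haveI : Fact (Nat.Prime 2) := ⟨Nat.prime_two⟩
  set C := centralizer (A : Set G)
  have htC : C.map (MulAut.conj t).toMonoidHom = C := by
    refine Subgroup.eq_of_le_of_card_ge ?_
      (le_of_eq (Subgroup.card_map_of_injective (MulEquiv.injective _)).symm)
    rintro _ ⟨c, hc, rfl⟩
    rw [mem_centralizer_iff]
    intro x hx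
    have hx' : t⁻¹ * x * t ∈ A := (mem_normalizer_iff''.1 F.normA x).1 hx
    have := mem_centralizer_iff.1 hc _ hx'
    show x * (t * c * t⁻¹) = t * c * t⁻¹ * x
    calc x * (t * c * t⁻¹) = t * (t⁻¹ * x * t * c) * t⁻¹ := by group
      _ = t * c * t⁻¹ * x := by rw [this]; group
  have htN : t ∈ normalizer (C : Set G) := mem_normalizer_of_map htC
  letI : MulAction ↥(zpowers t) ↥C :=
    { smul := fun g c => ⟨(g : G) * c * (g : G)⁻¹, (mem_normalizer_iff.1 (zpowers_le.2 htN g.2) c).1 c.2⟩
      one_smul := fun c => Subtype.ext (show (1 : G) * c * (1 : G)⁻¹ = c by group)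
      mul_smul := fun a b c => Subtype.ext (show ((a : G) * b) * c * ((a : G) * b)⁻¹ =
        (a : G) * ((b : G) * c * (b : G)⁻¹) * (a : G)⁻¹ by group) }
  have hp : IsPGroup 2 ↥(zpowers t) := IsPGroup.of_card (n := 1) (by rw [Nat.card_zpowers, F.ord, pow_one])
  have h2 : 2 ∣ Nat.card C := even_iff_two_dvd.1 heven
  have hn : 2 ∣ Nat.card ↥(centralizer ({t} : Set G) ⊓ C : Subgroup G) := by
    have hfp : Nat.card (MulAction.fixedPoints ↥(zpowers t) ↥C) =
        Nat.card ↥(centralizer ({t} : Set G) ⊓ C : Subgroup G) := by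
      refine Nat.card_congr
        { toFun := fun c => ⟨(c.1 : G), mem_centralizer_singleton_iff.2 ?_, c.1.2⟩
          invFun := fun c => ⟨⟨c.1, c.2.2⟩, ?_⟩
          left_inv := fun c => rfl
          right_inv := fun c => rfl }
      · have := congrArg Subtype.val (c.2 ⟨t, mem_zpowers t⟩)
        change t * (c.1 : G) * t⁻¹ = c.1 at this
        exact (mul_inv_eq_iff_eq_mul.1 this).symm
      · rintro ⟨g, hg⟩
        obtain ⟨i, rfl⟩ := mem_zpowers_iff.1 hg
        refine Subtype.ext ?_
        show t ^ i * c.1 * (t ^ i)⁻¹ = c.1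
        rw [((show Commute (c.1 : G) t from mem_centralizer_singleton_iff.1 c.2.1).symm.zpow_left i).eq,
          mul_inv_cancel_right]
    rw [← hfp]
    exact Nat.modEq_zero_iff_dvd.1
      ((hp.card_modEq_card_fixedPoints ↥C).symm.trans (Nat.modEq_zero_iff_dvd.2 h2))
  obtain ⟨r, hr⟩ := exists_prime_orderOf_dvd_card' (G := ↥(centralizer ({t} : Set G) ⊓ C : Subgroup G)) 2 hn
  exact ⟨r, by rw [Subgroup.orderOf_coe, hr], mem_centralizer_singleton_iff.1 r.2.1, r.2.2⟩

/-- Such an involution centralises every member normalised by `t`. -/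
theorem involution_centralizes (F : Frame P Y A t) (h : Core P) {s : G} (hs : orderOf s = 2)
    (hst : Commute s t) (hsA : s ∈ centralizer (A : Set G)) {Q : Subgroup G} (hQ : Member P Q)
    (htQ : t ∈ normalizer (Q : Set G)) : s ∈ centralizer (Q : Set G) := by
  set Q' := Q.map (MulAut.conj s).toMonoidHom
  have hA := F.member h.toSetting
  by_cases hQQ : Q' = Q
  · exact pair_lemma h.toSetting hA hQ hsA (mem_normalizer_of_map hQQ)
  exfalso
  have htQ' : t ∈ normalizer (Q' : Set G) := by
    rw [mem_normalizer_map_iff, mul_assoc, ← hst.eq, inv_mul_cancel_left]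
    exact htQ
  have F' := F.two h hQ (hQ.conj s) (Ne.symm hQQ) htQ htQ'
  have hsn : s ∈ normalizer ((Q ⊔ Q' : Subgroup G) : Set G) := by
    refine mem_normalizer_of_map ?_
    rw [Subgroup.map_sup, sup_comm, ← map_conj_mul,
      show s * s = 1 from Involutions.Basic.inv_sq_one hs, map_conj_one]
  obtain ⟨y, hy, hyc⟩ := F'.pair.decompose hsn
  have hact : ∀ x ∈ Q ⊔ Q', s * x * s⁻¹ = y * x * y⁻¹ := by
    intro x hx
    have := mem_centralizer_iff.1 hyc x hx
    calc s * x * s⁻¹ = y * (y⁻¹ * s * x) * s⁻¹ := by group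
      _ = y * x * y⁻¹ := by rw [← this]; group
  have hy1 : y ≠ 1 := by
    intro e
    refine hQQ (SetLike.ext' ?_)
    rw [Subgroup.coe_map]
    calc (fun x => s * x * s⁻¹) '' (Q : Set G) = id '' (Q : Set G) :=
          Set.image_congr fun x hx => by rw [hact x (mem_sup_left hx), e]; simp
      _ = (Q : Set G) := Set.image_id _
  have hyy : y * y = 1 := by
    apply F'.pair.eq_one_of_centralizes (mul_mem hy hy)
    rw [mem_centralizer_iff]
    intro x hx
    have h1 := hact x hx
    have hmem : y * x * y⁻¹ ∈ Q ⊔ Q' := mul_mem (mul_mem hy hx) (inv_mem hy)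
    have h2 := hact _ hmem
    rw [← h1, show s * (s * x * s⁻¹) * s⁻¹ = s * s * x * (s * s)⁻¹ by group,
      Involutions.Basic.inv_sq_one hs, one_mul, inv_one, mul_one, h1] at h2
    calc x * (y * y) = y * (y * x * y⁻¹) * y⁻¹ * (y * y) := by rw [← h2]
      _ = y * y * x := by group
  haveI : Fact (Nat.Prime 2) := ⟨Nat.prime_two⟩
  have hy2 : orderOf (⟨y, hy⟩ : ↥(Q ⊔ Q')) = 2 := by
    rw [orderOf_mk]; exact orderOf_eq_prime (by rw [sq, hyy]) hy1
  obtain ⟨R₀, hR₀, hyR₀⟩ := F'.pair.isJ.exists_normalized hy2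
  set R := R₀.map (Q ⊔ Q').subtype
  have hRle : R ≤ Q ⊔ Q' := map_subtype_le _
  have hRc : Nat.card R = 11 := by rw [Subgroup.card_map_of_injective (subtype_injective _), hR₀]
  have hRsub : R.subgroupOf (Q ⊔ Q') = R₀ := comap_map_eq_self_of_injective (subtype_injective _) R₀
  have hyR : y ∈ normalizer (R : Set G) :=
    (JPair.mem_normalizer_subgroupOf hRle hy).1 (by rw [hRsub]; exact hyR₀)
  have hinv := F'.pair.inverts hRle hRc hy (by rw [← orderOf_mk y hy]; exact hy2) hyR
  have hsR : s ∈ normalizer (R : Set G) := by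
    refine mem_normalizer_of_map ?_
    rw [show R.map (MulAut.conj s).toMonoidHom = R.map (MulAut.conj y).toMonoidHom from
      SetLike.ext' (Set.image_congr fun x hx => hact x (hRle hx)), map_conj_eq_self hyR]
  have hsc := pair_lemma h.toSetting hA (F'.pair.member h.toSetting hRle hRc) hsA hsR
  obtain ⟨x, hx, hx1⟩ := exists_ne_one hRc
  have h1 := hact x (hRle hx)
  rw [hinv x hx, ← mem_centralizer_iff.1 hsc x hx, mul_inv_cancel_right] at h1
  have h2 : orderOf x ∣ 2 := orderOf_dvd_of_pow_eq_one (by rw [sq]; nth_rewrite 1 [h1]; rw [inv_mul_cancel])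
  rw [orderOf_eleven hRc hx hx1] at h2
  omega

/-- If `C(A)` has even order then all members normalised by `t` lie in the pair. -/
theorem fixed_le (F : Frame P Y A t) (h : Core P) (heven : Even (Nat.card ↥(centralizer (A : Set G))))
    {Q : Subgroup G} (hQ : Member P Q) (htQ : t ∈ normalizer (Q : Set G)) : Q ≤ Y := by
  obtain ⟨s, hs, hst, hsA⟩ := F.exists_involution heven
  obtain ⟨f, -, -, -, -, -, A', hA'Y, hA'c, hA'ne, htA', -, -⟩ := F.exists_five
  have hsA' := F.involution_centralizes h hs hst hsA (F.pair.member h.toSetting hA'Y hA'c) htA'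
  have hsY : s ∈ centralizer (Y : Set G) := by
    rw [← F.gen h hA'Y hA'c (Ne.symm hA'ne) htA', mem_centralizer_iff]
    intro x hx
    have hle : A ⊔ A' ≤ centralizer ({s} : Set G) := sup_le
      (fun y hy => mem_centralizer_singleton_iff.2 (mem_centralizer_iff.1 hsA y hy))
      (fun y hy => mem_centralizer_singleton_iff.2 (mem_centralizer_iff.1 hsA' y hy))
    exact mem_centralizer_singleton_iff.1 (hle hx)
  exact F.pair.le_of_centralized h (Involutions.Basic.ne_one hs) hsY hQ
    (F.involution_centralizes h hs hst hsA hQ htQ)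

/-- When every member normalised by `t` lies in the pair, `C(t)` normalises it. -/
theorem centralizer_le_normalizer_of_fixed (F : Frame P Y A t) (h : Core P)
    (hfix : ∀ Q, Member P Q → t ∈ normalizer (Q : Set G) → Q ≤ Y) {g : G} (hg : Commute g t) :
    g ∈ normalizer (Y : Set G) := by
  obtain ⟨f, -, -, -, -, -, A', hA'Y, hA'c, hA'ne, htA', -, -⟩ := F.exists_five
  have key : ∀ Q : Subgroup G, Member P Q → t ∈ normalizer (Q : Set G) →
      Q.map (MulAut.conj g).toMonoidHom ≤ Y ∧
        t ∈ normalizer ((Q.map (MulAut.conj g).toMonoidHom : Subgroup G) : Set G) := fun Q hQ htQ => by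
    have htg : t ∈ normalizer ((Q.map (MulAut.conj g).toMonoidHom : Subgroup G) : Set G) := by
      rw [mem_normalizer_map_iff, mul_assoc, ← hg.eq, inv_mul_cancel_left]
      exact htQ
    exact ⟨hfix _ (hQ.conj g) htg, htg⟩
  obtain ⟨h1, -⟩ := key A (F.member h.toSetting) F.normA
  obtain ⟨h2, -⟩ := key A' (F.pair.member h.toSetting hA'Y hA'c) htA'
  refine mem_normalizer_of_map (Subgroup.eq_of_le_of_card_ge ?_
    (le_of_eq (Subgroup.card_map_of_injective (MulEquiv.injective _)).symm))
  rw [← F.gen h hA'Y hA'c (Ne.symm hA'ne) htA', Subgroup.map_sup,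
    F.gen h hA'Y hA'c (Ne.symm hA'ne) htA']
  exact sup_le h1 h2

end Frame

/-- In such a situation every involution normalising the pair has its centraliser in the normaliser. -/
theorem centralizer_le_normalizer_involution (h : Core P) {Y : Subgroup G} (hY : JPair P Y)
    (hfix : ∀ A t, Frame P Y A t → ∀ Q, Member P Q → t ∈ normalizer (Q : Set G) → Q ≤ Y)
    {z g : G} (hz : orderOf z = 2) (hzY : z ∈ normalizer (Y : Set G)) (hgz : Commute g z) :
    g ∈ normalizer (Y : Set G) := by
  obtain ⟨y, hy, hyz⟩ := hY.decompose hzY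
  have hzz := Involutions.Basic.inv_sq_one hz
  by_cases hy1 : y = 1
  · rw [hy1, inv_one, one_mul] at hyz
    obtain ⟨Q, R, hQ, hR, hne, hsup⟩ := hY.gen
    have key : ∀ S, Member P S → S ≤ Y → S.map (MulAut.conj g).toMonoidHom ≤ Y := by
      intro S hS hSY
      refine hY.le_of_centralized h (Involutions.Basic.ne_one hz) hyz (hS.conj g) ?_
      rw [mem_centralizer_iff]
      rintro _ ⟨x, hx, rfl⟩
      have h1 := mem_centralizer_iff.1 hyz x (hSY hx)
      show g * x * g⁻¹ * z = z * (g * x * g⁻¹)
      calc g * x * g⁻¹ * z = g * (x * z) * g⁻¹ := by rw [mul_assoc, hgz.inv_left.eq]; group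
        _ = g * z * (x * g⁻¹) := by rw [h1]; group
        _ = z * (g * x * g⁻¹) := by rw [hgz.eq]; group
    refine mem_normalizer_of_map (Subgroup.eq_of_le_of_card_ge ?_
      (le_of_eq (Subgroup.card_map_of_injective (MulEquiv.injective _)).symm))
    rw [← hsup, Subgroup.map_sup, hsup]
    exact sup_le (key Q hQ (hsup ▸ le_sup_left)) (key R hR (hsup ▸ le_sup_right))
  · have hact : ∀ x ∈ Y, z * x * z⁻¹ = y * x * y⁻¹ := by
      intro x hx
      have := mem_centralizer_iff.1 hyz x hx
      calc z * x * z⁻¹ = y * (y⁻¹ * z * x) * z⁻¹ := by group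
        _ = y * x * y⁻¹ := by rw [← this]; group
    have hyy : y * y = 1 := by
      apply hY.eq_one_of_centralizes (mul_mem hy hy)
      rw [mem_centralizer_iff]
      intro x hx
      have h1 := hact x hx
      have h2 := hact _ (show y * x * y⁻¹ ∈ Y from mul_mem (mul_mem hy hx) (inv_mem hy))
      rw [← h1, show z * (z * x * z⁻¹) * z⁻¹ = z * z * x * (z * z)⁻¹ by group, hzz, one_mul, inv_one, mul_one,
        h1] at h2
      calc x * (y * y) = y * (y * x * y⁻¹) * y⁻¹ * (y * y) := by rw [← h2]
        _ = y * y * x := by group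
    haveI : Fact (Nat.Prime 2) := ⟨Nat.prime_two⟩
    have hy2 : orderOf (⟨y, hy⟩ : ↥Y) = 2 := by
      rw [orderOf_mk]; exact orderOf_eq_prime (by rw [sq, hyy]) hy1
    obtain ⟨B₀, hB₀, hyB₀⟩ := hY.isJ.exists_normalized hy2
    set B := B₀.map Y.subtype
    have hBle : B ≤ Y := map_subtype_le _
    have hBc : Nat.card B = 11 := by rw [Subgroup.card_map_of_injective (subtype_injective _), hB₀]
    have hBsub : B.subgroupOf Y = B₀ := comap_map_eq_self_of_injective (subtype_injective _) B₀
    have hyB : y ∈ normalizer (B : Set G) :=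
      (JPair.mem_normalizer_subgroupOf hBle hy).1 (by rw [hBsub]; exact hyB₀)
    have F : Frame P Y B z := ⟨hY, hBle, hBc, hz, hzY, fun x hx => by
      rw [hact x (hBle hx)]
      exact hY.inverts hBle hBc hy (by rw [← orderOf_mk y hy]; exact hy2) hyB x hx⟩
    exact F.centralizer_le_normalizer_of_fixed h (hfix B z F) hgz

namespace Frame

variable {Y A : Subgroup G} {t : G}

/-- The centraliser of `A` has odd order. -/
theorem odd_centralizer (F : Frame P Y A t) (h : Core P) : Odd (Nat.card ↥(centralizer (A : Set G))) := by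
  rw [← Nat.not_even_iff_odd]
  intro heven
  have hfix : ∀ B z, Frame P Y B z → ∀ Q, Member P Q → z ∈ normalizer (Q : Set G) → Q ≤ Y :=
    fun B z F' Q hQ hzQ =>
      F'.fixed_le h (even_centralizer_conj (F.member h.toSetting) (F'.member h.toSetting) heven) hQ hzQ
  have hC : ∀ z g : G, orderOf z = 2 → z ∈ normalizer (Y : Set G) → Commute g z →
      g ∈ normalizer (Y : Set G) :=
    fun z g hz hzY hgz => centralizer_le_normalizer_involution h F.pair hfix hz hzY hgz
  obtain ⟨s, hs, hst, hsA⟩ := F.exists_involution heven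
  have hsY : s ∈ normalizer (Y : Set G) := hC t s F.ord F.normY hst
  have hnc : ∀ g : G, ¬ IsConj s (g * t * g⁻¹) := by
    intro g hg
    obtain ⟨a, ha⟩ := isConj_iff.1 hg
    have e : s = a⁻¹ * g * t * (a⁻¹ * g)⁻¹ := by
      calc s = a⁻¹ * (a * s * a⁻¹) * a := by group
        _ = a⁻¹ * g * t * (a⁻¹ * g)⁻¹ := by rw [ha]; group
    have hinv := (F.map (a⁻¹ * g)).inverts_all h (F.member h.toSetting) (Q := A)
      (e ▸ centralizer_le_normalizer _ hsA)
    obtain ⟨x, hx, hx1⟩ := exists_ne_one F.cardA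
    have h1 := hinv x hx
    rw [← e, ← mem_centralizer_iff.1 hsA x hx, mul_inv_cancel_right] at h1
    have h2 : orderOf x ∣ 2 := orderOf_dvd_of_pow_eq_one (by rw [sq]; nth_rewrite 1 [h1]; rw [inv_mul_cancel])
    rw [orderOf_eleven F.cardA hx hx1] at h2
    omega
  have hall : ∀ g : G, g * t * g⁻¹ ∈ normalizer (Y : Set G) := by
    intro g
    have ho : orderOf (g * t * g⁻¹) = 2 := by rw [Involutions.Basic.orderOf_conj, F.ord]
    obtain ⟨hi2, his, hit⟩ := Involutions.Basic.middle_involution hs ho
      (Involutions.Basic.even_orderOf_mul_of_not_isConj hs ho (hnc g))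
    exact hC _ _ hi2 (hC s _ hs hsY his) hit.symm
  haveI := h.simple
  have hNtop : normalizer (Y : Set G) = ⊤ := by
    rcases Subgroup.Normal.eq_bot_or_eq_top (normalClosure_normal (s := ({t} : Set G))) with e | e
    · exact absurd (mem_bot.1 (e ▸ subset_normalClosure (Set.mem_singleton t)))
        (Involutions.Basic.ne_one F.ord)
    · rw [eq_top_iff, ← e]
      refine (closure_le _).2 fun x hx => ?_
      obtain ⟨a, ha, hax⟩ := Group.mem_conjugatesOfSet_iff.1 hx
      rw [Set.mem_singleton_iff] at ha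
      obtain ⟨g, rfl⟩ := isConj_iff.1 (ha ▸ hax)
      exact hall g
  rcases Subgroup.Normal.eq_bot_or_eq_top (Subgroup.normalizer_eq_top_iff.1 hNtop) with e | e
  · have := F.pair.card
    rw [e, card_bot] at this
    omega
  · exact F.pair.ne_top h e

end Frame

end Cfsg.Agent.ElevenPairs.JCase
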